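import Cfsg.Prelude.Def_LieTypeDatum
import Cfsg.Agent.Lib.Linear.SymplecticGroup

/-!
# Transvections in the symplectic group of matrices

`tS v c` is the transvection `x ↦ x + c B(x, v) v` in `Sp_2m(F)` and `radQ v` the subgroup fixing `v` and acting
trivially on the factor `v^⊥ / F v`.
-/

set_option autoImplicit false

namespace Cfsg.Lib.Linear.AutPSp

open Matrix Module Cfsg.Lib.Linear.Symp

variable {m : ℕ} {F : Type*} [Field F]

set_option quotPrecheck false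

local notation "V" => (Fin m ⊕ Fin m → F)
local notation "Sp" => ↥(Matrix.symplecticGroup (Fin m) F)

theorem form_self (v : V) : spB m F v v = 0 := spB_isAlt m F v

theorem form_swap (u v : V) : spB m F u v = -spB m F v u := (LinearMap.IsAlt.neg (spB_isAlt m F) v u).symm

theorem form_eq_zero_comm {u v : V} : spB m F u v = 0 ↔ spB m F v u = 0 := by rw [form_swap, neg_eq_zero]

theorem exists_pair {v : V} (hv : v ≠ 0) : ∃ z : V, spB m F z v = 1 := by
  obtain ⟨x, hx⟩ := exists_apply_ne_zero (spB_nondegenerate m F) hv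
  exact ⟨(spB m F x v)⁻¹ • x, by rw [map_smul, LinearMap.smul_apply, smul_eq_mul, inv_mul_cancel₀ hx]⟩

theorem perp_trans {v w : V} (hv : v ≠ 0) (h : ∀ u, spB m F u v = 0 → spB m F u w = 0) :
    ∃ a : F, w = a • v := by
  obtain ⟨z, hz⟩ := exists_pair hv
  refine ⟨spB m F z w, sub_eq_zero.1 ((spB_nondegenerate m F).2 _ fun x => ?_)⟩
  have h1 := h (x - spB m F x v • z) (by simp [hz])
  simp only [map_sub, map_smul, LinearMap.sub_apply, LinearMap.smul_apply, smul_eq_mul] at h1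
  simp only [map_sub, map_smul, smul_eq_mul]
  linear_combination h1

theorem form_mulVec (g : Sp) (u v : V) : spB m F (g.1 *ᵥ u) (g.1 *ᵥ v) = spB m F u v :=
  (mem_symplecticGroup_iff _).1 g.2 u v

theorem sp_ext {g h : Sp} (e : ∀ x : V, g.1 *ᵥ x = h.1 *ᵥ x) : g = h :=
  Subtype.ext (Matrix.toLin'.injective (LinearMap.ext fun x => e x))

theorem coe_mul_mulVec (g h : Sp) (x : V) : (g * h).1 *ᵥ x = g.1 *ᵥ (h.1 *ᵥ x) := by
  rw [Submonoid.coe_mul, Matrix.mulVec_mulVec]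

theorem inv_mulVec_cancel (g : Sp) (x : V) : (g⁻¹).1 *ᵥ (g.1 *ᵥ x) = x := by
  rw [← coe_mul_mulVec, inv_mul_cancel, Submonoid.coe_one, Matrix.one_mulVec]

theorem mulVec_inv_cancel (g : Sp) (x : V) : g.1 *ᵥ ((g⁻¹).1 *ᵥ x) = x := by
  rw [← coe_mul_mulVec, mul_inv_cancel, Submonoid.coe_one, Matrix.one_mulVec]

theorem mulVec_ne_zero (g : Sp) {v : V} (hv : v ≠ 0) : g.1 *ᵥ v ≠ 0 := fun h =>
  hv (by rw [← inv_mulVec_cancel g v, h, Matrix.mulVec_zero])

theorem center_smul {z : Sp} (hz : z ∈ Subgroup.center Sp) : ∃ a : F, a * a = 1 ∧ ∀ x : V, z.1 *ᵥ x = a • x := by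
  have h : spEquiv z ∈ Subgroup.center (iso (spB m F)) := Subgroup.mem_center_iff.2 fun g => by
    obtain ⟨g', rfl⟩ := (spEquiv (m := m) (F := F)).surjective g
    rw [← map_mul, ← map_mul, Subgroup.mem_center_iff.1 hz g']
  obtain ⟨a, ha, hv⟩ := (mem_center_iff_smul (spB_nondegenerate m F) (spB_isAlt m F) _).1 h
  exact ⟨a, ha, fun x => by rw [← spEquiv_apply, hv]⟩

theorem mem_center_of_smul {z : Sp} (a : F) (h : ∀ x : V, z.1 *ᵥ x = a • x) : z ∈ Subgroup.center Sp :=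
  Subgroup.mem_center_iff.2 fun g => sp_ext fun x => by
    rw [coe_mul_mulVec, coe_mul_mulVec, h, h, Matrix.mulVec_smul]

/-- The transvection with centre `v`. -/
def tS (v : V) (c : F) : Sp := ⟨Cfsg.sympTransvection m v c, sympTransvection_mem v c⟩

theorem tS_mulVec (v : V) (c : F) (x : V) : (tS v c).1 *ᵥ x = x + (c * spB m F x v) • v :=
  sympTransvection_mulVec v c x

theorem conj_tS (g : Sp) (v : V) (c : F) : g * tS v c * g⁻¹ = tS (g.1 *ᵥ v) c := sp_ext fun x => by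
  rw [coe_mul_mulVec, coe_mul_mulVec, tS_mulVec, tS_mulVec, Matrix.mulVec_add, mulVec_inv_cancel, Matrix.mulVec_smul,
    ← form_mulVec g ((g⁻¹).1 *ᵥ x) v, mulVec_inv_cancel]

theorem tS_mul (v : V) (c d : F) : tS v c * tS v d = tS v (c + d) := sp_ext fun x => by
  simp only [coe_mul_mulVec, tS_mulVec, map_add, map_smul, LinearMap.add_apply, LinearMap.smul_apply,
    smul_eq_mul, form_self]
  module

theorem tS_zero (v : V) : tS v (0 : F) = 1 := sp_ext fun x => by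
  rw [tS_mulVec]; simp

theorem tS_pow (v : V) (c : F) : ∀ k : ℕ, (tS v c) ^ k = tS v (k * c)
  | 0 => by rw [pow_zero, Nat.cast_zero, zero_mul, tS_zero]
  | k + 1 => by rw [pow_succ, tS_pow v c k, tS_mul, Nat.cast_succ, add_mul, one_mul]

theorem tS_pow_char {p : ℕ} [CharP F p] (v : V) (c : F) : (tS v c) ^ p = 1 := by
  rw [tS_pow, CharP.cast_eq_zero, zero_mul, tS_zero]

theorem tS_smul (v : V) (a c : F) : tS (a • v) c = tS v (a ^ 2 * c) := sp_ext fun x => by
  simp only [tS_mulVec, map_smul, smul_eq_mul, smul_smul]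
  congr 2
  ring

theorem tS_inj {v w : V} {c d : F} (hv : v ≠ 0) (hc : c ≠ 0) (h : tS v c = tS w d) :
    ∃ a : F, a ≠ 0 ∧ w = a • v ∧ c = a ^ 2 * d := by
  obtain ⟨z, hz⟩ := exists_pair hv
  have h1 := congrArg (fun g : Sp => g.1 *ᵥ z) h
  simp only [tS_mulVec, add_right_inj, hz, mul_one] at h1
  have hd : d * spB m F z w ≠ 0 := fun h0 => by
    rw [h0, zero_smul, smul_eq_zero] at h1
    exact h1.elim hc hv
  have hw : w = ((d * spB m F z w)⁻¹ * c) • v := by
    rw [← smul_smul, h1, smul_smul, inv_mul_cancel₀ hd, one_smul]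
  refine ⟨_, mul_ne_zero (inv_ne_zero hd) hc, hw, ?_⟩
  have h2 := h
  rw [hw, tS_smul] at h2
  have h3 := congrArg (fun g : Sp => g.1 *ᵥ z) h2
  simp only [tS_mulVec, add_right_inj, hz, mul_one] at h3
  exact smul_left_injective F hv h3

theorem tS_ne_one {v : V} (hv : v ≠ 0) {c : F} (hc : c ≠ 0) : tS v c ≠ 1 := fun h => by
  rw [← tS_zero v] at h
  obtain ⟨a, -, -, h'⟩ := tS_inj hv hc h
  rw [mul_zero] at h'
  exact hc h'

/-- The product of transvections acting as `x ↦ x + B(x, v) w + B(x, w) v`. -/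
def rho (v w : V) : Sp := tS (v + w) 1 * tS v (-1) * tS w (-1)

theorem rho_mulVec {v w : V} (h : spB m F w v = 0) (x : V) :
    (rho v w).1 *ᵥ x = x + spB m F x v • w + spB m F x w • v := by
  have h' : spB m F v w = 0 := form_eq_zero_comm.1 h
  simp only [rho, coe_mul_mulVec, tS_mulVec, map_add, map_smul, LinearMap.add_apply, LinearMap.smul_apply,
    smul_eq_mul, form_self, h, h']
  module

/-- The isometries fixing `v` and acting trivially on `v^⊥ / F v`. -/
def radQ (v : V) : Subgroup Sp where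
  carrier := {g | g.1 *ᵥ v = v ∧ ∀ u, spB m F u v = 0 → ∃ a : F, g.1 *ᵥ u = u + a • v}
  one_mem' := ⟨by rw [Submonoid.coe_one, Matrix.one_mulVec],
    fun u _ => ⟨0, by rw [Submonoid.coe_one, Matrix.one_mulVec, zero_smul, add_zero]⟩⟩
  mul_mem' := fun {g h} hg hh => ⟨by rw [coe_mul_mulVec, hh.1, hg.1], fun u hu => by
    obtain ⟨a, ha⟩ := hh.2 u hu
    obtain ⟨b, hb⟩ := hg.2 u hu
    exact ⟨b + a, by rw [coe_mul_mulVec, ha, Matrix.mulVec_add, Matrix.mulVec_smul, hb, hg.1, add_smul, add_assoc]⟩⟩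
  inv_mem' := fun {g} hg => by
    refine ⟨by conv_lhs => rw [← hg.1, inv_mulVec_cancel], fun u hu => ?_⟩
    obtain ⟨a, ha⟩ := hg.2 u hu
    refine ⟨-a, ?_⟩
    have h := congrArg (fun y => (g⁻¹).1 *ᵥ y) ha
    simp only [inv_mulVec_cancel, Matrix.mulVec_add, Matrix.mulVec_smul] at h
    have hv : (g⁻¹).1 *ᵥ v = v := by conv_lhs => rw [← hg.1, inv_mulVec_cancel]
    rw [hv] at h
    rw [neg_smul]
    exact eq_add_neg_of_add_eq h.symm

theorem tS_mem_radQ (v : V) (c : F) : tS v c ∈ radQ v :=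
  ⟨by rw [tS_mulVec, form_self, mul_zero, zero_smul, add_zero], fun u hu => ⟨0, by simp [tS_mulVec, hu]⟩⟩

theorem rho_mem_radQ {v w : V} (h : spB m F w v = 0) : rho v w ∈ radQ v :=
  ⟨by simp [rho_mulVec h, form_self, form_eq_zero_comm.1 h],
    fun u hu => ⟨spB m F u w, by simp [rho_mulVec h, hu]⟩⟩

theorem isPGroup_radQ (p : ℕ) [Fact p.Prime] [CharP F p] (v : V) : IsPGroup p (radQ v) := by
  intro g
  refine ⟨2, Subtype.ext (Subtype.ext ?_)⟩
  rw [SubgroupClass.coe_pow, SubmonoidClass.coe_pow, OneMemClass.coe_one, OneMemClass.coe_one]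
  set A := (g.1 : Sp).1 with hA
  have h1 : ∀ x : V, ∃ y, (A - 1) *ᵥ x = y ∧ spB m F y v = 0 := fun x => ⟨_, rfl, by
    rw [Matrix.sub_mulVec, Matrix.one_mulVec, map_sub, LinearMap.sub_apply, sub_eq_zero]
    conv_lhs => rw [← g.2.1]
    exact form_mulVec _ x v⟩
  have h3 : (A - 1) ^ 3 = 0 := by
    refine Matrix.toLin'.injective (LinearMap.ext fun x => ?_)
    rw [map_zero, LinearMap.zero_apply, Matrix.toLin'_apply, pow_succ', pow_two, ← Matrix.mulVec_mulVec,
      ← Matrix.mulVec_mulVec]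
    obtain ⟨y, hy, hy0⟩ := h1 x
    obtain ⟨a, ha⟩ := g.2.2 y hy0
    rw [hy, show (A - 1) *ᵥ y = a • v by rw [Matrix.sub_mulVec, Matrix.one_mulVec, ha, add_sub_cancel_left],
      Matrix.mulVec_smul, Matrix.sub_mulVec, Matrix.one_mulVec, g.2.1, sub_self, smul_zero]
  have h4 : (A - 1) ^ p ^ 2 = 0 := by
    refine pow_eq_zero_of_le ?_ h3
    calc 3 ≤ 2 ^ 2 := by norm_num
      _ ≤ p ^ 2 := Nat.pow_le_pow_left (Fact.out : p.Prime).two_le 2
  rcases isEmpty_or_nonempty (Fin m ⊕ Fin m) with he | he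
  · exact Subsingleton.elim _ _
  rw [sub_pow_char_pow_of_commute (p := p) (n := 2) (Commute.one_right A), one_pow, sub_eq_zero] at h4
  exact h4

theorem centralizer_radQ {v : V} (hv : v ≠ 0) {y : Sp} (hy : ∀ g ∈ radQ v, Commute g y) :
    ∃ ε : F, ε * ε = 1 ∧ y.1 *ᵥ v = ε • v ∧
      ∀ w, spB m F w v = 0 → ∃ a : F, ε • (y.1 *ᵥ w) = w + a • v ∧ 2 * a = 0 := by
  have hconj : ∀ {g}, g ∈ radQ v → y * g * y⁻¹ = g := fun {g} hg =>
    mul_inv_eq_iff_eq_mul.2 (hy g hg).eq.symm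
  obtain ⟨a, ha0, ha, ha2⟩ := tS_inj hv one_ne_zero
    (show tS v (1 : F) = tS (y.1 *ᵥ v) 1 by rw [← conj_tS, hconj (tS_mem_radQ v 1)])
  rw [mul_one, sq] at ha2
  refine ⟨a, ha2.symm, ha, fun w hw => ?_⟩
  obtain ⟨z, hz⟩ := exists_pair hv
  have key : ∀ x : V, (rho v w).1 *ᵥ (y.1 *ᵥ x) = y.1 *ᵥ ((rho v w).1 *ᵥ x) := fun x => by
    rw [← coe_mul_mulVec, (hy _ (rho_mem_radQ hw)).eq, coe_mul_mulVec]
  have hk := key z
  rw [rho_mulVec hw, rho_mulVec hw, Matrix.mulVec_add, Matrix.mulVec_add, Matrix.mulVec_smul, Matrix.mulVec_smul,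
    hz, one_smul, ha] at hk
  have hyz : spB m F (y.1 *ᵥ z) v = a := by
    have := form_mulVec y z v
    rw [ha, map_smul, hz, smul_eq_mul] at this
    calc spB m F (y.1 *ᵥ z) v = (a * a) * spB m F (y.1 *ᵥ z) v := by rw [← ha2, one_mul]
      _ = a := by rw [mul_assoc, this, mul_one]
  rw [hyz, add_assoc, add_assoc, add_right_inj] at hk
  have hd : y.1 *ᵥ w = a • w + (spB m F (y.1 *ᵥ z) w - spB m F z w * a) • v := by
    rw [sub_smul, ← add_sub_assoc, hk, smul_smul, add_sub_cancel_right]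
  set e := spB m F (y.1 *ᵥ z) w - spB m F z w * a with he
  refine ⟨a * e, ?_, ?_⟩
  · rw [hd, smul_add, smul_smul, smul_smul, ← ha2, one_smul]
  · have := form_mulVec y z w
    rw [hd, map_add, map_smul, map_smul, hyz, smul_eq_mul, smul_eq_mul] at this
    linear_combination this + a * he + spB m F z w * ha2

end Cfsg.Lib.Linear.AutPSp
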