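import Cfsg.Agent.Lib.Linear.AutPSp.Four
import Cfsg.Agent.Lib.Linear.AutPSL.Out

/-!
# The order of `Aut PSp_2m(q)`
-/

set_option autoImplicit false

namespace Cfsg.Lib.Linear.AutPSp

open Matrix Module Cfsg.Lib.Linear.Symp
open Cfsg.Lib.Linear.Descent (sc sc_val)

set_option quotPrecheck false

variable {m : ℕ} {F : Type*} [Field F]

local notation "Sp" => ↥(Matrix.symplecticGroup (Fin m) F)
local notation "P" => Cfsg.PSp m F
local notation "GS" => ↥(Cfsg.GSp m F)

variable (p : ℕ) [Fact p.Prime] [CharP F p]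

include p

theorem eq_one_of_innd_toGS (hm : 1 ≤ m) {s : Sp} (h : (innd (toGS s) : MulAut P) = 1) :
    (QuotientGroup.mk s : P) = 1 := by
  obtain ⟨c, hc⟩ := (innd_eq_one_iff p hm).1 h
  refine (QuotientGroup.eq_one_iff s).2 (mem_center_of_smul (c : F) fun x => ?_)
  show (toGS s).1.1 *ᵥ x = _
  rw [hc]
  show (sc c : GL (Fin m ⊕ Fin m) F).1 *ᵥ x = _
  rw [sc_val, Matrix.smul_mulVec, Matrix.one_mulVec]

variable [Fintype F]

theorem card_range_innd (hm : 1 ≤ m) :
    Nat.card (innd : GS →* MulAut P).range = Nat.gcd 2 (Fintype.card F - 1) * Nat.card P := by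
  classical
  haveI : Fact (1 ≤ m) := ⟨hm⟩
  let S : Subgroup Fˣ := (powMonoidHom 2 : Fˣ →* Fˣ).range
  have hS : Nat.card (Fˣ ⧸ S) = Nat.gcd 2 (Fintype.card F - 1) := by
    rw [← Subgroup.index_eq_card, IsCyclic.index_powMonoidHom_range, Nat.card_units, Nat.card_eq_fintype_card,
      Nat.gcd_comm]
  have hconj : ∀ s : Sp, (innd (toGS s) : MulAut P) = MulAut.conj (QuotientGroup.mk s : P) := fun s => (conj_mk_eq s).symm
  rw [← hS, ← Nat.card_prod]
  refine (Nat.card_eq_of_bijective (fun z : (Fˣ ⧸ S) × P =>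
    (⟨innd (dg z.1.out) * innd (toGS z.2.out), _, map_mul innd _ _⟩ : (innd : GS →* MulAut P).range)) ⟨?_, ?_⟩).symm
  · rintro ⟨a, x⟩ ⟨b, y⟩ h
    have h' : (innd (dg a.out) * innd (toGS x.out) : MulAut P) = innd (dg b.out) * innd (toGS y.out) :=
      congrArg Subtype.val h
    obtain ⟨c, hc⟩ := (innd_eq_innd p hm).1 (show (innd (dg a.out * toGS x.out) : MulAut P) =
      innd (dg b.out * toGS y.out) by rw [map_mul, map_mul, h'])
    have h1 := congrArg mu hc
    simp only [map_mul, mu_dg, mu_toGS, mu_scS, mul_one] at h1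
    obtain rfl : a = b := by
      rw [← QuotientGroup.out_eq' a, ← QuotientGroup.out_eq' b, h1, QuotientGroup.eq]
      exact ⟨c⁻¹, by simp [powMonoidHom, pow_two]⟩
    rw [mul_right_inj, hconj, hconj] at h'
    have h2 : (innd (toGS ((x.out)⁻¹ * y.out)) : MulAut P) = 1 := by
      rw [hconj, QuotientGroup.mk_mul, QuotientGroup.mk_inv, map_mul, map_inv, ← h', inv_mul_cancel]
    have h3 := eq_one_of_innd_toGS p hm h2
    rw [QuotientGroup.mk_mul, QuotientGroup.mk_inv, inv_mul_eq_one, QuotientGroup.out_eq', QuotientGroup.out_eq'] at h3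
    rw [h3]
  · rintro ⟨_, g, rfl⟩
    set a : Fˣ ⧸ S := QuotientGroup.mk (mu g)
    obtain ⟨d, hd⟩ : a.out⁻¹ * mu g ∈ S := QuotientGroup.eq.1 (QuotientGroup.out_eq' a)
    have hd' : d ^ 2 = a.out⁻¹ * mu g := hd
    obtain ⟨s, hs⟩ := exists_toGS (g := (dg a.out)⁻¹ * (scS d⁻¹ * g)) (by
      rw [map_mul, map_inv, map_mul, mu_dg, mu_scS, ← sq, inv_pow, hd', mul_left_comm, inv_mul_cancel])
    refine ⟨(a, QuotientGroup.mk s), Subtype.ext ?_⟩
    show (innd (dg a.out) * innd (toGS (QuotientGroup.mk s : P).out) : MulAut P) = innd g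
    rw [hconj, QuotientGroup.out_eq', ← hconj, hs, ← map_mul, mul_inv_cancel_left, map_mul, innd_scS, one_mul]

omit [Fintype F] in
theorem fld_eq_of_eq' (hm : 1 ≤ m) {A B : GS} {σ τ : F ≃+* F}
    (h : (innd A * fld σ : MulAut P) = innd B * fld τ) : σ = τ ∧ (innd A : MulAut P) = innd B := by
  have h1 : (innd (B⁻¹ * A) * fld (σ * τ⁻¹) : MulAut P) = 1 := by
    rw [map_mul, map_mul, map_inv, map_inv, mul_assoc, ← mul_assoc (innd A : MulAut P), h]
    group
  obtain rfl := mul_inv_eq_one.1 (innd_mul_fld_eq_one p hm h1).2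
  exact ⟨rfl, mul_right_cancel h⟩

theorem card_mulAut {f : ℕ} (hm : 2 ≤ m) (hmp : m = 2 → p ≠ 2) (hf : 1 ≤ f) (hF : Fintype.card F = p ^ f) :
    Nat.card (MulAut P) = Nat.gcd 2 (Fintype.card F - 1) * f * Nat.card P := by
  obtain ⟨E⟩ := AutPSL.exists_galEquiv hf hF
  have hgal : Nat.card (F ≃+* F) = f := by
    rw [Nat.card_congr E.toEquiv, Nat.card_congr Multiplicative.toAdd, Nat.card_zmod]
  rw [mul_right_comm, ← card_range_innd p (by omega : 1 ≤ m)]
  rw [← hgal]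
  rw [← Nat.card_prod]
  refine (Nat.card_eq_of_bijective
    (fun z : (innd : GS →* MulAut P).range × (F ≃+* F) => (z.1.1 * fld z.2 : MulAut P)) ⟨?_, ?_⟩).symm
  · rintro ⟨⟨_, A, rfl⟩, σ⟩ ⟨⟨_, B, rfl⟩, τ⟩ h
    obtain ⟨rfl, h2⟩ := fld_eq_of_eq' p (by omega : 1 ≤ m) (A := A) (B := B) h
    exact Prod.ext (Subtype.ext h2) rfl
  · intro β
    obtain ⟨g, σ, e⟩ := exists_decomp p hm hmp β
    exact ⟨(⟨_, g, rfl⟩, σ), e.symm⟩

end Cfsg.Lib.Linear.AutPSp

namespace Cfsg.Lib.Linear.AutPSp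

open Matrix Module Cfsg.Lib.Linear.Symp
open Cfsg.Lib.Linear.Descent (sc sc_val)

variable {F : Type*} [Field F] [Fintype F] [CharP F 2] {f : ℕ}

set_option quotPrecheck false
local notation "GS" => ↥(Cfsg.GSp 2 F)
local notation "P" => Cfsg.PSp 2 F

theorem decomp_four_bij :
    Function.Bijective (fun z : Bool × ((innd : GS →* MulAut P).range × (F ≃+* F)) =>
      ((if z.1 then graphP else 1) * (z.2.1.1 * fld z.2.2) : MulAut P)) := by
  have hne : ∀ (A B : GS) (σ τ : F ≃+* F), graphP * (innd A * fld σ) ≠ (innd B * fld τ : MulAut P) := by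
    intro A B σ τ h
    refine graphP_ne (B * smS (τ * σ⁻¹) A⁻¹) (τ * σ⁻¹) ?_
    calc graphP = innd B * fld τ * (fld σ)⁻¹ * (innd A)⁻¹ := by rw [← h]; group
      _ = innd B * (fld (τ * σ⁻¹) * innd A⁻¹) := by rw [map_mul fld, map_inv fld, map_inv innd]; group
      _ = _ := by rw [fld_mul_innd, map_mul innd, mul_assoc]
  constructor
  · rintro ⟨b, ⟨_, A, rfl⟩, σ⟩ ⟨b', ⟨_, B, rfl⟩, τ⟩ h
    cases b <;> cases b' <;> simp only [Bool.false_eq_true, if_false, if_true, one_mul] at h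
    · obtain ⟨rfl, h2⟩ := fld_eq_of_eq' 2 (by norm_num) (A := A) (B := B) h
      exact Prod.ext rfl (Prod.ext (Subtype.ext h2) rfl)
    · exact absurd h.symm (hne _ _ _ _)
    · exact absurd h (hne _ _ _ _)
    · obtain ⟨rfl, h2⟩ := fld_eq_of_eq' 2 (by norm_num) (A := A) (B := B) (mul_left_cancel h)
      exact Prod.ext rfl (Prod.ext (Subtype.ext h2) rfl)
  · intro β
    obtain ⟨g, σ, e | e⟩ := decomp_four β
    · exact ⟨(false, ⟨_, g, rfl⟩, σ), by simp [e]⟩
    · exact ⟨(true, ⟨_, g, rfl⟩, σ), by simp [e]⟩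

theorem card_mulAut_four (hf : 1 ≤ f) (hF : Fintype.card F = 2 ^ f) :
    Nat.card (MulAut P) = 2 * (f * Nat.card P) := by
  obtain ⟨E⟩ := AutPSL.exists_galEquiv hf hF
  have hgal : Nat.card (F ≃+* F) = f := by
    rw [Nat.card_congr E.toEquiv, Nat.card_congr Multiplicative.toAdd, Nat.card_zmod]
  have hodd : Nat.gcd 2 (Fintype.card F - 1) = 1 := by
    obtain ⟨k, hk⟩ : 2 ∣ Fintype.card F := hF ▸ dvd_pow_self 2 (by omega)
    have : 0 < Fintype.card F := Fintype.card_pos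
    exact (Nat.prime_two.coprime_iff_not_dvd).2 (by omega)
  rw [← Nat.card_eq_of_bijective _ decomp_four_bij, Nat.card_prod, Nat.card_prod, card_range_innd 2 (by norm_num),
    hodd, one_mul, hgal, Nat.card_eq_fintype_card (α := Bool), Fintype.card_bool]
  ring

theorem orderOf_sqAut (hf : 1 ≤ f) (hF : Fintype.card F = 2 ^ f) : orderOf (sqAut : F ≃+* F) = f := by
  obtain ⟨E⟩ := AutPSL.exists_galEquiv hf hF
  have hgal : Nat.card (F ≃+* F) = f := by
    rw [Nat.card_congr E.toEquiv, Nat.card_congr Multiplicative.toAdd, Nat.card_zmod]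
  haveI : Finite (F ≃+* F) := Nat.finite_of_card_ne_zero (by omega)
  refine le_antisymm (Nat.le_of_dvd (by omega) (hgal ▸ orderOf_dvd_natCard _)) ?_
  set k := orderOf (sqAut : F ≃+* F) with hk
  have hk1 : 1 ≤ k := (orderOf_pos _)
  have hpow : ∀ (j : ℕ) (x : F), ((sqAut : F ≃+* F) ^ j) x = x ^ 2 ^ j := by
    intro j
    induction j with
    | zero => intro x; simp
    | succ j ih =>
      intro x
      rw [pow_succ', RingAut.mul_apply, ih, pow_succ, pow_mul]
      exact frobeniusEquiv_apply F 2 _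
  obtain ⟨u, hu⟩ := IsCyclic.exists_monoid_generator (α := Fˣ)
  have h1 : u ^ (2 ^ k - 1) = 1 := by
    have h := hpow k (u : F)
    rw [hk, pow_orderOf_eq_one, RingAut.one_apply, ← hk] at h
    refine Units.ext ?_
    rw [Units.val_pow_eq_pow_val, Units.val_one]
    refine mul_left_cancel₀ u.ne_zero ?_
    rw [← pow_succ', Nat.sub_add_cancel Nat.one_le_two_pow, mul_one, ← h]
  have h2 : orderOf u = 2 ^ f - 1 := by
    rw [orderOf_eq_card_of_forall_mem_powers hu, Nat.card_units, Nat.card_eq_fintype_card, hF]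
  have h3 : 2 ^ f - 1 ≤ 2 ^ k - 1 := by
    refine h2 ▸ Nat.le_of_dvd ?_ (orderOf_dvd_of_pow_eq_one h1)
    have : 2 ^ 1 ≤ 2 ^ k := Nat.pow_le_pow_right (by norm_num) hk1
    omega
  exact (Nat.pow_le_pow_iff_right (by norm_num : 1 < 2)).1 (by
    have := @Nat.one_le_two_pow k
    omega)

theorem out_four (hf : 1 ≤ f) (hF : Fintype.card F = 2 ^ f) :
    IsCyclic (Cfsg.Out P) ∧ Nat.card (Cfsg.Out P) = 2 * f := by
  haveI := inn_normal (m := 2) (F := F)
  obtain ⟨E⟩ := AutPSL.exists_galEquiv hf hF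
  have hgal : Nat.card (F ≃+* F) = f := by
    rw [Nat.card_congr E.toEquiv, Nat.card_congr Multiplicative.toAdd, Nat.card_zmod]
  haveI : Finite (F ≃+* F) := Nat.finite_of_card_ne_zero (by omega)
  have hrange : (innd : GS →* MulAut P).range = Cfsg.Inn P := range_eq_inn_of_two 2 (by norm_num) rfl
  constructor
  · refine ⟨⟨QuotientGroup.mk graphP, fun z => ?_⟩⟩
    obtain ⟨β, rfl⟩ := QuotientGroup.mk_surjective z
    obtain ⟨⟨b, ⟨A, hA⟩, σ⟩, rfl⟩ := decomp_four_bij.2 β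
    have hσ : σ ∈ Subgroup.zpowers (sqAut : F ≃+* F) := by
      rw [Subgroup.eq_top_of_card_eq _ ((Nat.card_zpowers _).trans ((orderOf_sqAut hf hF).trans hgal.symm))]
      trivial
    obtain ⟨i, rfl⟩ := hσ
    have h1 : (QuotientGroup.mk A : Cfsg.Out P) = 1 := (QuotientGroup.eq_one_iff A).2 (hrange ▸ hA)
    have h2 : (QuotientGroup.mk (fld (sqAut ^ i)) : Cfsg.Out P) = (QuotientGroup.mk graphP) ^ (2 * i) := by
      rw [map_zpow, ← graphP_sq, QuotientGroup.mk_zpow, QuotientGroup.mk_mul, _root_.zpow_mul, _root_.zpow_two]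
    cases b
    · refine ⟨2 * i, ?_⟩
      simp only [Bool.false_eq_true, if_false, one_mul, QuotientGroup.mk_mul, h1, h2]
    · refine ⟨1 + 2 * i, ?_⟩
      simp only [if_true, QuotientGroup.mk_mul, h1, h2, one_mul, _root_.zpow_add, zpow_one]
  · have h := Subgroup.card_eq_card_quotient_mul_card_subgroup (Cfsg.Inn P)
    have hodd : Nat.gcd 2 (Fintype.card F - 1) = 1 := by
      obtain ⟨k, hk⟩ : 2 ∣ Fintype.card F := hF ▸ dvd_pow_self 2 (by omega)
      have : 0 < Fintype.card F := Fintype.card_pos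
      exact (Nat.prime_two.coprime_iff_not_dvd).2 (by omega)
    rw [card_mulAut_four hf hF, ← mul_assoc, ← hrange, card_range_innd 2 (by norm_num), hodd, one_mul] at h
    show Nat.card (MulAut P ⧸ Cfsg.Inn P) = 2 * f
    rw [← hrange]
    exact (Nat.eq_of_mul_eq_mul_right Nat.card_pos h).symm

end Cfsg.Lib.Linear.AutPSp
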