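import Cfsg.Agent.Lib.Linear.AutPSp.Basic
import Cfsg.Agent.Lib.Linear.AutPSL.Basic

/-!
# The automorphism of `PSp_2m(F)` induced by a semilinear similitude
-/

set_option autoImplicit false

namespace Cfsg.Lib.Linear.AutPSp

open Matrix Module Cfsg.Lib.Linear.Symp

set_option quotPrecheck false

variable {m : ℕ} {F : Type*} [Field F]

local notation "V" => (Fin m ⊕ Fin m → F)
local notation "Sp" => ↥(Matrix.symplecticGroup (Fin m) F)

theorem mem_GSp_iff {g : GL (Fin m ⊕ Fin m) F} :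
    g ∈ Cfsg.GSp m F ↔ ∃ c : Fˣ, ∀ u v : V, spB m F (g.1 *ᵥ u) (g.1 *ᵥ v) = (c : F) * spB m F u v := by
  simp only [spB_apply]
  exact Iff.rfl

theorem J_map (σ : F ≃+* F) : (Matrix.J (Fin m) F).map σ = Matrix.J (Fin m) F := by
  ext i j
  rcases i with i | i <;> rcases j with j | j <;>
    simp [Matrix.J, Matrix.one_apply, apply_ite σ, Matrix.neg_apply]

theorem map_mem (σ : F ≃+* F) (s : Sp) : s.1.map σ ∈ Matrix.symplecticGroup (Fin m) F := by
  rw [SymplecticGroup.mem_iff]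
  have h := congrArg (fun M : Matrix _ _ F => M.map σ) (SymplecticGroup.mem_iff.1 s.2)
  simp only [Matrix.map_mul, Matrix.transpose_map, J_map] at h
  exact h

theorem form_map (σ : F ≃+* F) (u v : V) : spB m F (σ ∘ u) (σ ∘ v) = σ (spB m F u v) := by
  rw [spB_apply, spB_apply, Cfsg.sympForm, Cfsg.sympForm, ← J_map σ]
  simp only [dotProduct, Matrix.mulVec, Matrix.map_apply, Function.comp_apply, map_sum, map_mul]
  simp only [← Matrix.map_apply (f := σ), J_map]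

theorem conj_mem {g : GL (Fin m ⊕ Fin m) F} (hg : g ∈ Cfsg.GSp m F) (s : Sp) :
    g.1 * s.1 * (g⁻¹).1 ∈ Matrix.symplecticGroup (Fin m) F := by
  obtain ⟨c, hc⟩ := mem_GSp_iff.1 hg
  rw [mem_symplecticGroup_iff]
  intro u v
  have hx : ∀ x : V, g.1 *ᵥ ((g⁻¹).1 *ᵥ x) = x := fun x => by
    rw [Matrix.mulVec_mulVec, Units.mul_inv, Matrix.one_mulVec]
  simp only [← Matrix.mulVec_mulVec]
  rw [hc, form_mulVec, ← hc, hx, hx]

/-- Apply a field automorphism to the entries. -/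
def frob : (F ≃+* F) →* MulAut Sp where
  toFun σ :=
    { toFun := fun s => ⟨s.1.map σ, map_mem σ s⟩
      invFun := fun s => ⟨s.1.map σ.symm, map_mem σ.symm s⟩
      left_inv := fun s => Subtype.ext (Matrix.ext fun i j => σ.symm_apply_apply _)
      right_inv := fun s => Subtype.ext (Matrix.ext fun i j => σ.apply_symm_apply _)
      map_mul' := fun s t => Subtype.ext Matrix.map_mul }
  map_one' := MulEquiv.ext fun s => Subtype.ext (Matrix.ext fun i j => rfl)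
  map_mul' σ τ := MulEquiv.ext fun s => Subtype.ext (Matrix.ext fun i j => rfl)

/-- Conjugation by a similitude. -/
def cnj : ↥(Cfsg.GSp m F) →* MulAut Sp where
  toFun g :=
    { toFun := fun s => ⟨g.1.1 * s.1 * (g.1⁻¹).1, conj_mem g.2 s⟩
      invFun := fun s => ⟨(g.1⁻¹).1 * s.1 * g.1.1, by simpa using conj_mem (inv_mem g.2) s⟩
      left_inv := fun s => Subtype.ext (by
        show (g.1⁻¹).1 * (g.1.1 * s.1 * (g.1⁻¹).1) * g.1.1 = s.1
        simp [← mul_assoc])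
      right_inv := fun s => Subtype.ext (by
        show g.1.1 * ((g.1⁻¹).1 * s.1 * g.1.1) * (g.1⁻¹).1 = s.1
        simp [← mul_assoc])
      map_mul' := fun s t => Subtype.ext (by
        show g.1.1 * (s.1 * t.1) * (g.1⁻¹).1 = g.1.1 * s.1 * (g.1⁻¹).1 * (g.1.1 * t.1 * (g.1⁻¹).1)
        simp only [Matrix.mul_assoc]
        rw [← Matrix.mul_assoc (g.1⁻¹).1 g.1.1, Units.inv_mul, Matrix.one_mul]) }
  map_one' := MulEquiv.ext fun s => Subtype.ext (by
    show (1 : GL (Fin m ⊕ Fin m) F).val * s.1 * ((1 : GL (Fin m ⊕ Fin m) F)⁻¹).val = s.1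
    simp)
  map_mul' g h := MulEquiv.ext fun s => Subtype.ext (by
    show (g.1 * h.1).val * s.1 * ((g.1 * h.1)⁻¹).val = g.1.val * (h.1.val * s.1 * (h.1⁻¹).val) * (g.1⁻¹).val
    simp only [_root_.mul_inv_rev, Units.val_mul, Matrix.mul_assoc])

/-- The automorphism induced on `PSp`. -/
def descend : MulAut Sp →* MulAut (Cfsg.PSp m F) where
  toFun e := QuotientGroup.congr _ _ e (Cfsg.Lib.Linear.AutPSL.map_center e)
  map_one' := MulEquiv.ext fun x => by
    obtain ⟨s, rfl⟩ := QuotientGroup.mk_surjective x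
    exact QuotientGroup.congr_mk _ _ _ _ s
  map_mul' a b := MulEquiv.ext fun x => by
    obtain ⟨s, rfl⟩ := QuotientGroup.mk_surjective x
    rfl

/-- The inner-diagonal automorphism of a similitude. -/
def innd : ↥(Cfsg.GSp m F) →* MulAut (Cfsg.PSp m F) := descend.comp cnj

/-- The standard field automorphism. -/
def fld : (F ≃+* F) →* MulAut (Cfsg.PSp m F) := descend.comp frob

theorem innd_mk (g : ↥(Cfsg.GSp m F)) (s : Sp) :
    innd g (QuotientGroup.mk s) = QuotientGroup.mk (cnj g s) := rfl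

theorem fld_mk (σ : F ≃+* F) (s : Sp) :
    fld σ (QuotientGroup.mk s) = QuotientGroup.mk (frob σ s) := rfl

theorem aut_ext {β γ : MulAut (Cfsg.PSp m F)} (h : ∀ s : Sp, β (QuotientGroup.mk s) = γ (QuotientGroup.mk s)) :
    β = γ :=
  MulEquiv.ext fun x => by obtain ⟨s, rfl⟩ := QuotientGroup.mk_surjective x; exact h s

theorem isInduced_innd_mul_fld (g : ↥(Cfsg.GSp m F)) (σ : F ≃+* F) :
    Cfsg.IsInducedBySemilinearPSp g.1 σ (innd g * fld σ : MulAut (Cfsg.PSp m F)) := fun s s' h => by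
  rw [MulAut.mul_apply, fld_mk, innd_mk]
  exact congrArg _ (Subtype.ext h.symm)

theorem cnj_frob_tS (g : ↥(Cfsg.GSp m F)) (σ : F ≃+* F) {μ : Fˣ}
    (hμ : ∀ u v : V, spB m F (g.1.1 *ᵥ u) (g.1.1 *ᵥ v) = (μ : F) * spB m F u v) (v : V) (c : F) :
    cnj g (frob σ (tS v c)) = tS (g.1.1 *ᵥ (σ ∘ v)) (σ c * ((μ⁻¹ : Fˣ) : F)) := sp_ext fun x => by
  have hgx : g.1.1 *ᵥ ((g.1⁻¹).1 *ᵥ x) = x := by
    rw [Matrix.mulVec_mulVec, Units.mul_inv, Matrix.one_mulVec]
  have hfr : ∀ y : V, ((tS v c).1.map σ) *ᵥ (σ ∘ y) = σ ∘ ((tS v c).1 *ᵥ y) := fun y => funext fun i => by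
    simp [Matrix.mulVec, dotProduct, map_sum]
  show (g.1.1 * (tS v c).1.map σ * (g.1⁻¹).1) *ᵥ x = _
  obtain ⟨y, hy⟩ : ∃ y : V, σ ∘ y = (g.1⁻¹).1 *ᵥ x :=
    ⟨σ.symm ∘ ((g.1⁻¹).1 *ᵥ x), funext fun i => σ.apply_symm_apply _⟩
  rw [← Matrix.mulVec_mulVec, ← Matrix.mulVec_mulVec, ← hy, hfr, tS_mulVec, tS_mulVec]
  have h1 : spB m F x (g.1.1 *ᵥ (σ ∘ v)) = (μ : F) * σ (spB m F y v) := by
    rw [← form_map, ← hμ, hy, hgx]
  rw [h1, show σ ∘ (y + (c * spB m F y v) • v) = σ ∘ y + σ (c * spB m F y v) • (σ ∘ v) from funext fun i => by simp,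
    Matrix.mulVec_add, Matrix.mulVec_smul, hy, hgx, map_mul]
  congr 2
  rw [mul_assoc (σ c), ← mul_assoc ((μ⁻¹ : Fˣ) : F), Units.inv_mul, one_mul]

end Cfsg.Lib.Linear.AutPSp
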