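import Cfsg.Agent.Lib.Linear.AutPSp.SmallClass
import Cfsg.Agent.Lib.Linear.AutPSp.Semilinear
import Cfsg.Agent.Lib.Linear.Collineation

/-!
# Automorphisms of `PSp_2m(q)`, `(m, p) ≠ (2, 2)`

An automorphism permutes the classes of transvections, hence the points, preserving orthogonality; the collineation is
semilinear, and an automorphism fixing every point is trivial.
-/

set_option autoImplicit false

namespace Cfsg.Lib.Linear.AutPSp

open Matrix Module Cfsg.Lib.Linear.Symp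

set_option quotPrecheck false

variable {m : ℕ} {F : Type*} [Field F]

local notation "V" => (Fin m ⊕ Fin m → F)
local notation "Sp" => ↥(Matrix.symplecticGroup (Fin m) F)
local notation "P" => Cfsg.PSp m F

theorem mem_span_pair_of_perp {a b w : V}
    (h : ∀ z, spB m F z a = 0 → spB m F z b = 0 → spB m F z w = 0) :
    ∃ r s : F, w = r • a + s • b := by
  have hw : w ∈ (spB m F).orthogonal ((spB m F).orthogonal (Submodule.span F {a, b})) := by
    intro z hz
    exact h z (form_eq_zero_comm.1 (hz a (Submodule.subset_span (by simp))))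
      (form_eq_zero_comm.1 (hz b (Submodule.subset_span (by simp))))
  rw [LinearMap.BilinForm.orthogonal_orthogonal (spB_nondegenerate m F) (spB_isAlt m F).isRefl] at hw
  obtain ⟨r, s, hrs⟩ := Submodule.mem_span_pair.1 hw
  exact ⟨r, s, hrs.symm⟩

theorem exists_both_ne {x y : V} (hx : x ≠ 0) (hy : y ≠ 0) :
    ∃ w, spB m F x w ≠ 0 ∧ spB m F w y ≠ 0 := by
  obtain ⟨w₁, h₁⟩ := exists_pair hx
  obtain ⟨w₂, h₂⟩ := exists_pair hy
  have e₁ : spB m F x w₁ = -1 := by rw [form_swap, h₁]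
  by_cases a : spB m F w₁ y = 0
  · by_cases b : spB m F x w₂ = 0
    · exact ⟨w₁ + w₂, by simp [e₁, b], by simp [a, h₂]⟩
    · exact ⟨w₂, b, by rw [h₂]; exact one_ne_zero⟩
  · exact ⟨w₁, by simp [e₁], a⟩

/-- A bijective linear map preserving orthogonality is a similitude. -/
theorem mem_GSp_of_orth (hm : 1 ≤ m) {g : GL (Fin m ⊕ Fin m) F}
    (h : ∀ u v : V, spB m F (g.1 *ᵥ u) (g.1 *ᵥ v) = 0 ↔ spB m F u v = 0) : g ∈ Cfsg.GSp m F := by
  choose z hz using fun v : {v : V // v ≠ 0} => exists_pair v.2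
  let c : {v : V // v ≠ 0} → F := fun v => spB m F (g.1 *ᵥ z v) (g.1 *ᵥ v.1)
  have hc : ∀ (u : V) v, spB m F (g.1 *ᵥ u) (g.1 *ᵥ v.1) = c v * spB m F u v.1 := fun u v => by
    have h1 := (h (u - spB m F u v.1 • z v) v.1).2 (by simp [hz])
    simp only [Matrix.mulVec_sub, Matrix.mulVec_smul, map_sub, map_smul, LinearMap.sub_apply, LinearMap.smul_apply,
      smul_eq_mul] at h1
    simp only [c]
    linear_combination h1
  have hsym : ∀ (u v : {v : V // v ≠ 0}), spB m F u.1 v.1 ≠ 0 → c u = c v := fun u v huv => by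
    have h1 := hc u.1 v
    rw [form_swap, hc v.1 u, form_swap v.1 u.1] at h1
    exact mul_right_cancel₀ huv (by linear_combination h1)
  have he : (Pi.single (Sum.inl ⟨0, by omega⟩) 1 : V) ≠ 0 := Pi.single_ne_zero_iff.2 one_ne_zero
  have hconst : ∀ v, c v = c ⟨_, he⟩ := fun v => by
    obtain ⟨w, h1, h2⟩ := exists_both_ne v.2 he
    have hw : w ≠ 0 := fun h0 => h1 (by rw [h0, map_zero])
    exact (hsym v ⟨w, hw⟩ h1).trans (hsym ⟨w, hw⟩ ⟨_, he⟩ h2)
  have hc0 : c ⟨_, he⟩ ≠ 0 := fun h0 => by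
    have := (h _ _).1 (show spB m F (g.1 *ᵥ z ⟨_, he⟩) (g.1 *ᵥ (Pi.single (Sum.inl ⟨0, by omega⟩) 1 : V)) = 0 from h0)
    rw [hz] at this
    exact one_ne_zero this
  refine mem_GSp_iff.2 ⟨Units.mk0 _ hc0, fun u v => ?_⟩
  rcases eq_or_ne v 0 with rfl | hv
  · simp
  · rw [hc u ⟨v, hv⟩, hconst]; rfl

variable (p : ℕ) [Fact p.Prime] [CharP F p]

include p

theorem center_eq_one_of_pow {z : Sp} (hz : z ∈ Subgroup.center Sp) (h : z ^ p = 1) : z = 1 := by
  obtain ⟨a, ha, hv⟩ := center_smul hz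
  have hk : ∀ k (x : V), (z ^ k).1 *ᵥ x = a ^ k • x := by
    intro k
    induction k with
    | zero => intro x; rw [pow_zero, pow_zero, Submonoid.coe_one, Matrix.one_mulVec, one_smul]
    | succ k ih => intro x; rw [pow_succ, coe_mul_mulVec, hv, Matrix.mulVec_smul, ih, smul_smul, ← pow_succ']
  refine sp_ext fun x => ?_
  rw [hv, Submonoid.coe_one, Matrix.one_mulVec]
  rcases eq_or_ne x 0 with rfl | hx
  · simp
  have h1 := hk p x
  rw [h, Submonoid.coe_one, Matrix.one_mulVec] at h1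
  have h2 : a ^ p = 1 := smul_left_injective F hx (h1.symm.trans (one_smul F x).symm)
  have : a = 1 := sub_eq_zero.1 (pow_eq_zero_iff (Fact.out : p.Prime).ne_zero |>.1
    (by rw [sub_pow_char, h2, one_pow, sub_self]))
  rw [this, one_smul]

theorem mk_inj_of_pow {x y : Sp} (hx : x ^ p = 1) (hy : y ^ p = 1)
    (h : (QuotientGroup.mk x : P) = QuotientGroup.mk y) : x = y := by
  have hz : x⁻¹ * y ∈ Subgroup.center Sp := QuotientGroup.eq.1 h
  have hcomm : Commute x (x⁻¹ * y) := (Subgroup.mem_center_iff.1 hz x)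
  have h1 : (x⁻¹ * y) ^ p = 1 := by
    have h2 := hcomm.mul_pow p
    rw [mul_inv_cancel_left, hy, hx, one_mul] at h2
    exact h2.symm
  exact inv_mul_eq_one.1 (center_eq_one_of_pow p hz h1)

theorem exists_lift_pow {a : P} (ha : a ^ p = 1) : ∃ y : Sp, y ^ p = 1 ∧ QuotientGroup.mk y = a := by
  obtain ⟨y, rfl⟩ := QuotientGroup.mk_surjective a
  rw [← QuotientGroup.mk_pow, QuotientGroup.eq_one_iff] at ha
  set z := y ^ p
  refine ⟨z * y, ?_, ?_⟩
  · have hcomm : Commute z y := (Subgroup.mem_center_iff.1 ha y).symm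
    rw [hcomm.mul_pow, show y ^ p = z from rfl, ← pow_succ]
    obtain ⟨c, hc, hv⟩ := center_smul ha
    have hk : ∀ k (x : V), (z ^ k).1 *ᵥ x = c ^ k • x := by
      intro k
      induction k with
      | zero => intro x; rw [pow_zero, pow_zero, Submonoid.coe_one, Matrix.one_mulVec, one_smul]
      | succ k ih => intro x; rw [pow_succ, coe_mul_mulVec, hv, Matrix.mulVec_smul, ih, smul_smul, ← pow_succ']
    refine sp_ext fun x => ?_
    rw [hk, Submonoid.coe_one, Matrix.one_mulVec]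
    rcases mul_self_eq_one_iff.1 hc with rfl | rfl
    · rw [one_pow, one_smul]
    · rw [pow_succ, neg_one_pow_char F p, neg_mul_neg, one_mul, one_smul]
  · rw [QuotientGroup.mk_mul, (QuotientGroup.eq_one_iff z).2 ha, one_mul]

theorem card_cls_mk {x : Sp} (hx : x ^ p = 1) :
    Nat.card (cls (QuotientGroup.mk x : P)) = Nat.card (cls x) := by
  have e : cls (QuotientGroup.mk x : P) = (fun y : Sp => (QuotientGroup.mk y : P)) '' cls x := by
    ext a
    constructor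
    · rintro ⟨g, rfl⟩
      obtain ⟨g, rfl⟩ := QuotientGroup.mk_surjective g
      exact ⟨_, ⟨g, rfl⟩, rfl⟩
    · rintro ⟨_, ⟨g, rfl⟩, rfl⟩
      exact ⟨QuotientGroup.mk g, rfl⟩
  rw [e]
  refine Nat.card_image_of_injOn ?_
  rintro _ ⟨g, rfl⟩ _ ⟨k, rfl⟩ h
  exact mk_inj_of_pow p (by rw [conj_pow, hx, mul_one, mul_inv_cancel]) (by rw [conj_pow, hx, mul_one, mul_inv_cancel]) h

theorem card_cls_aut (γ : MulAut P) (a : P) : Nat.card (cls (γ a)) = Nat.card (cls a) := by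
  have e : cls (γ a) = γ '' cls a := by
    ext b
    constructor
    · rintro ⟨g, rfl⟩
      exact ⟨_, ⟨γ.symm g, rfl⟩, by simp⟩
    · rintro ⟨_, ⟨g, rfl⟩, rfl⟩
      exact ⟨γ g, by simp⟩
  rw [e, Nat.card_image_of_injective γ.injective]

variable [Fintype F]

theorem exists_image (hm : 2 ≤ m) (hmp : m = 2 → p ≠ 2) (γ : MulAut P) {v : V} (hv : v ≠ 0) :
    ∃ (w : V) (c : F), w ≠ 0 ∧ c ≠ 0 ∧ γ (QuotientGroup.mk (tS v 1)) = QuotientGroup.mk (tS w c) := by
  have ht : (tS v (1 : F)) ^ p = 1 := tS_pow_char v 1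
  obtain ⟨y, hy, hyt⟩ := exists_lift_pow (m := m) (F := F) p (a := γ (QuotientGroup.mk (tS v 1)))
    (by rw [← map_pow, ← QuotientGroup.mk_pow, ht, QuotientGroup.mk_one, map_one])
  have hcard : Nat.card (cls y) = Nat.card (cls (tS v (1 : F))) := by
    rw [← card_cls_mk p hy, hyt, card_cls_aut p, card_cls_mk p ht]
  have hy1 : y ≠ 1 := fun h => by
    rw [h, QuotientGroup.mk_one] at hyt
    exact tS_ne_one hv one_ne_zero (mk_inj_of_pow p ht (one_pow p)
      (γ.injective (by rw [← hyt, QuotientGroup.mk_one, map_one])))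
  obtain ⟨w, c, hw, hc, rfl⟩ := exists_eq_tS_of_small p hm hmp hy1 hy
    (hcard ▸ card_cls_tS_le hv) (hcard ▸ not_dvd_card_cls_tS p (by omega) hv)
  exact ⟨w, c, hw, hc, hyt.symm⟩

omit [Fintype F] in
theorem commute_iff {v w : V} {c d : F} (hc : c ≠ 0) (hd : d ≠ 0) :
    Commute (QuotientGroup.mk (tS v c) : P) (QuotientGroup.mk (tS w d)) ↔ spB m F v w = 0 := by
  constructor
  · intro h
    rcases eq_or_ne w 0 with rfl | hw
    · simp
    have h1 : (QuotientGroup.mk (tS v c * tS w d * (tS v c)⁻¹) : P) = QuotientGroup.mk (tS w d) := by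
      rw [QuotientGroup.mk_mul, QuotientGroup.mk_mul, QuotientGroup.mk_inv, h.eq, mul_inv_cancel_right]
    rw [conj_tS] at h1
    obtain ⟨a, -, ha, -⟩ := tS_inj hw hd (mk_inj_of_pow p (tS_pow_char _ _) (tS_pow_char _ _) h1).symm
    rw [tS_mulVec] at ha
    by_contra hne
    have hwv : spB m F w v ≠ 0 := fun h0 => hne (form_eq_zero_comm.1 h0)
    have hv : (c * spB m F w v) • v = (a - 1) • w := by rw [sub_smul, one_smul, ← ha, add_sub_cancel_left]
    have := congrArg (spB m F w) hv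
    simp [form_self, hc, hwv] at this
  · intro h
    have : tS v c * tS w d = tS w d * tS v c := sp_ext fun x => by
      simp only [coe_mul_mulVec, tS_mulVec, map_add, map_smul, LinearMap.add_apply, LinearMap.smul_apply,
        smul_eq_mul, h, form_eq_zero_comm.1 h]
      module
    show _ * _ = _ * _
    rw [← QuotientGroup.mk_mul, ← QuotientGroup.mk_mul, this]

/-- `w` is the image of the point `v`. -/
def Img (γ : MulAut P) (v w : V) : Prop :=
  ∃ c d : F, c ≠ 0 ∧ d ≠ 0 ∧ γ (QuotientGroup.mk (tS v c)) = QuotientGroup.mk (tS w d)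

omit [Fintype F] in
theorem Img.orth {γ : MulAut P} {v w u z : V} (h : Img γ v w) (h' : Img γ u z) :
    spB m F v u = 0 ↔ spB m F w z = 0 := by
  obtain ⟨c, d, hc, hd, e⟩ := h
  obtain ⟨c', d', hc', hd', e'⟩ := h'
  rw [← commute_iff p hc hc', ← commute_iff p hd hd', ← e, ← e']
  exact ⟨fun h => h.map γ, fun h => by simpa using h.map γ.symm⟩

theorem eq_one_of_fixes_points (δ : MulAut P)
    (h : ∀ v : V, v ≠ 0 → ∃ d : F, d ≠ 0 ∧ δ (QuotientGroup.mk (tS v 1)) = QuotientGroup.mk (tS v d)) :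
    δ = 1 := by
  refine aut_ext fun s => ?_
  obtain ⟨s', hs'⟩ := QuotientGroup.mk_surjective (δ (QuotientGroup.mk s))
  rw [MulAut.one_apply, ← hs', QuotientGroup.eq]
  have hline : ∀ v : V, v ≠ 0 → ∃ a : F, s'.1 *ᵥ v = a • (s.1 *ᵥ v) := by
    intro v hv
    obtain ⟨d, hd, e⟩ := h v hv
    obtain ⟨d', hd', e'⟩ := h _ (mulVec_ne_zero s hv)
    rw [← conj_tS, QuotientGroup.mk_mul, QuotientGroup.mk_mul, QuotientGroup.mk_inv, map_mul, map_mul, map_inv, e, ← hs',
      ← QuotientGroup.mk_inv, ← QuotientGroup.mk_mul, ← QuotientGroup.mk_mul, conj_tS] at e'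
    obtain ⟨a, -, ha, -⟩ := tS_inj (mulVec_ne_zero s hv) hd'
      (mk_inj_of_pow p (tS_pow_char _ _) (tS_pow_char _ _) e').symm
    exact ⟨a, ha⟩
  refine Subgroup.mem_center_iff.2 fun g => ?_
  have hline' : ∀ v : V, ∃ a : F, (s'⁻¹ * s).1 *ᵥ v = a • v := by
    intro v
    rcases eq_or_ne v 0 with rfl | hv
    · exact ⟨0, by simp⟩
    obtain ⟨a, ha⟩ := hline v hv
    have ha0 : a ≠ 0 := fun h0 => mulVec_ne_zero s' hv (by rw [ha, h0, zero_smul])
    refine ⟨a⁻¹, ?_⟩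
    rw [coe_mul_mulVec, show s.1 *ᵥ v = a⁻¹ • (s'.1 *ᵥ v) by rw [ha, smul_smul, inv_mul_cancel₀ ha0, one_smul],
      Matrix.mulVec_smul, inv_mulVec_cancel]
  obtain ⟨a, ha⟩ : ∃ a : F, ∀ v : V, (s'⁻¹ * s).1 *ᵥ v = a • v := by
    choose a ha using hline'
    rcases isEmpty_or_nonempty (Fin m ⊕ Fin m) with he | ⟨⟨i₀⟩⟩
    · exact ⟨0, fun v => Subsingleton.elim _ _⟩
    let e : Fin m ⊕ Fin m → V := fun i => Pi.single i 1
    have hae : ∀ i j, a (e i) = a (e j) := fun i j => by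
      rcases eq_or_ne i j with rfl | hij
      · rfl
      have h1 := ha (e i + e j)
      rw [Matrix.mulVec_add, ha, ha] at h1
      have c1 := congrFun h1 i
      have c2 := congrFun h1 j
      simp [e, hij, hij.symm] at c1 c2
      rw [c1, c2]
    refine ⟨a (e i₀), fun v => ?_⟩
    conv_lhs => rw [pi_eq_sum_univ' v]
    conv_rhs => rw [pi_eq_sum_univ' v]
    rw [Matrix.mulVec_sum, Finset.smul_sum]
    refine Finset.sum_congr rfl fun i _ => ?_
    rw [Matrix.mulVec_smul, ha, hae i i₀, smul_comm]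
  exact (Subgroup.mem_center_iff.1 (mem_center_of_smul a ha) g)

/-- **Automorphisms of `PSp_2m(q)`**. -/
theorem exists_decomp (hm : 2 ≤ m) (hmp : m = 2 → p ≠ 2) (β : MulAut P) :
    ∃ (g : ↥(Cfsg.GSp m F)) (σ : F ≃+* F), β = innd g * fld σ := by
  classical
  choose φ₀ c₀ hφ hc₀ hφ₀ using fun v : {v : V // v ≠ 0} => exists_image p hm hmp β v.2
  let φ : V → V := fun v => if h : v ≠ 0 then φ₀ ⟨v, h⟩ else 0
  have himg : ∀ v, v ≠ 0 → Img β v (φ v) := fun v hv =>
    ⟨1, c₀ ⟨v, hv⟩, one_ne_zero, hc₀ _, by simp only [φ, dif_pos hv]; exact hφ₀ ⟨v, hv⟩⟩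
  have hφne : ∀ v, v ≠ 0 → φ v ≠ 0 := fun v hv => by simp only [φ, dif_pos hv]; exact hφ _
  have hpre : ∀ z : V, z ≠ 0 → ∃ u, u ≠ 0 ∧ Img β u z := fun z hz => by
    obtain ⟨u, c, hu, hc, e⟩ := exists_image p hm hmp β⁻¹ hz
    exact ⟨u, hu, c, 1, hc, one_ne_zero, by rw [← e, MulAut.inv_def, MulEquiv.apply_symm_apply]⟩
  have horth : ∀ x y, x ≠ 0 → y ≠ 0 → (spB m F x y = 0 ↔ spB m F (φ x) (φ y) = 0) := fun x y hx hy =>
    Img.orth p (himg x hx) (himg y hy)
  have hcard : 3 ≤ Fintype.card (Fin m ⊕ Fin m) := by rw [Fintype.card_sum, Fintype.card_fin]; omega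
  obtain ⟨g, σ, hgσ⟩ := Collineation.exists_semilinear hcard φ hφne
    (fun x y hx hy ⟨c, hc⟩ => perp_trans hx fun u hu => by
      rcases eq_or_ne u 0 with rfl | hu0
      · simp
      rw [horth u y hu0 hy, hc, map_smul, (horth u x hu0 hx).1 hu, smul_zero])
    (fun x c hx hc => perp_trans (hφne x hx) fun z hz => by
      rcases eq_or_ne z 0 with rfl | hz0
      · simp
      obtain ⟨u, hu0, hu⟩ := hpre z hz0
      refine (Img.orth p hu (himg _ (smul_ne_zero hc hx))).1 ?_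
      rw [map_smul, (Img.orth p hu (himg x hx)).2 hz, smul_zero])
    (fun w hw => by
      obtain ⟨u, hu0, hu⟩ := hpre w hw
      refine ⟨u, hu0, perp_trans hw fun z hz => ?_⟩
      rcases eq_or_ne z 0 with rfl | hz0
      · simp
      obtain ⟨t, ht0, ht⟩ := hpre z hz0
      exact (Img.orth p ht (himg u hu0)).1 ((Img.orth p ht hu).2 hz))
    (fun x y r s hx hy hxy => mem_span_pair_of_perp fun z hzx hzy => by
      rcases eq_or_ne z 0 with rfl | hz0
      · simp
      obtain ⟨u, hu0, hu⟩ := hpre z hz0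
      refine (Img.orth p hu (himg _ hxy)).1 ?_
      simp [(Img.orth p hu (himg x hx)).2 hzx, (Img.orth p hu (himg y hy)).2 hzy])
  have hg : g ∈ Cfsg.GSp m F := by
    refine mem_GSp_of_orth (by omega) fun a b => ?_
    obtain ⟨x, rfl⟩ : ∃ x, σ ∘ x = a := ⟨σ.symm ∘ a, funext fun i => σ.apply_symm_apply _⟩
    obtain ⟨y, rfl⟩ : ∃ y, σ ∘ y = b := ⟨σ.symm ∘ b, funext fun i => σ.apply_symm_apply _⟩
    rw [form_map, map_eq_zero_iff σ σ.injective]
    rcases eq_or_ne x 0 with rfl | hx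
    · simp
    rcases eq_or_ne y 0 with rfl | hy
    · simp
    obtain ⟨r, hr, hr'⟩ := hgσ x hx
    obtain ⟨s, hs, hs'⟩ := hgσ y hy
    rw [horth x y hx hy, hr', hs']
    simp [hr, hs]
  obtain ⟨μ, hμ⟩ := mem_GSp_iff.1 hg
  refine ⟨⟨g, hg⟩, σ, ?_⟩
  have h1 : (innd ⟨g, hg⟩ * fld σ : MulAut P)⁻¹ * β = 1 := by
    refine eq_one_of_fixes_points p _ fun v hv => ?_
    obtain ⟨k, hk, hk'⟩ := hgσ v hv
    refine ⟨σ.symm (k ^ 2 * c₀ ⟨v, hv⟩ * μ), ?_, ?_⟩
    · simp [hk, hc₀]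
    · rw [MulAut.mul_apply, MulAut.inv_def, MulEquiv.symm_apply_eq, hφ₀ ⟨v, hv⟩, MulAut.mul_apply, fld_mk, innd_mk,
        cnj_frob_tS ⟨g, hg⟩ σ hμ, RingEquiv.apply_symm_apply,
        show φ₀ ⟨v, hv⟩ = φ v by simp only [φ, dif_pos hv], hk', tS_smul, mul_assoc (k ^ 2 * c₀ _), Units.mul_inv, mul_one]
  exact (inv_mul_eq_one.1 h1).symm

end Cfsg.Lib.Linear.AutPSp
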