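import Cfsg.Agent.Lib.Linear.AutPSp.Field

/-!
# Centraliser and split count of a standard field automorphism of `PSp_2m(q)`
-/

set_option autoImplicit false

namespace Cfsg.Lib.Linear.AutPSp

open Matrix Module Cfsg.Lib.Linear.Symp
open Cfsg.Lib.Linear.Descent (sc sm tw nrm sc_val sc_comm sm_sc sm_one sm_mul)

set_option quotPrecheck false

section Transport

variable {X : Type*} [Group X] {H K : Subgroup X} {α : X}

/-- `α` carries `H` to itself. -/
def Norms (α : X) (H : Subgroup X) : Prop := ∀ y, α * y * α⁻¹ ∈ H ↔ y ∈ H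

theorem isConjUnder_norms (hH : Norms α H) {x y : X} :
    Cfsg.IsConjUnder H (α * x * α⁻¹) (α * y * α⁻¹) ↔ Cfsg.IsConjUnder H x y := by
  constructor
  · rintro ⟨k, hk, e⟩
    refine ⟨α⁻¹ * k * α, (hH _).1 (by simpa [mul_assoc] using hk), ?_⟩
    calc y = α⁻¹ * (α * y * α⁻¹) * α := by group
      _ = _ := by rw [e]; group
  · rintro ⟨k, hk, rfl⟩
    exact ⟨α * k * α⁻¹, (hH k).2 hk, by group⟩

theorem centralizer_norms (hH : Norms α H) (x : X) :
    Nonempty (↥(H ⊓ Subgroup.centralizer {α * x * α⁻¹}) ≃* ↥(H ⊓ Subgroup.centralizer {x})) := by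
  refine ⟨(((H ⊓ Subgroup.centralizer {x}).equivMapOfInjective (MulAut.conj α).toMonoidHom
    (MulEquiv.injective _)).trans (MulEquiv.subgroupCongr ?_)).symm⟩
  ext y
  simp only [Subgroup.mem_map, MulEquiv.coe_toMonoidHom, MulAut.conj_apply, Subgroup.mem_inf,
    Subgroup.mem_centralizer_singleton_iff]
  constructor
  · rintro ⟨z, ⟨hz, hzx⟩, rfl⟩
    refine ⟨(hH z).2 hz, ?_⟩
    calc α * z * α⁻¹ * (α * x * α⁻¹) = α * (z * x) * α⁻¹ := by group
      _ = _ := by rw [hzx]; group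
  · rintro ⟨hy, hyx⟩
    refine ⟨α⁻¹ * y * α, ⟨(hH _).1 (by simpa [mul_assoc] using hy), ?_⟩, by group⟩
    calc α⁻¹ * y * α * x = α⁻¹ * (y * (α * x * α⁻¹)) * α := by group
      _ = _ := by rw [hyx]; group

theorem splitClassCount_norms (hH : Norms α H) (hK : Norms α K) (x : X) :
    Cfsg.splitClassCount H K (α * x * α⁻¹) = Cfsg.splitClassCount H K x :=
  (Nat.card_congr (Quot.congr
    ((MulAut.conj α).toEquiv.subtypeEquiv fun _ => (isConjUnder_norms hH).symm)
    fun _ _ => (isConjUnder_norms hK).symm)).symm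

theorem norms_of_normal (hK : K.Normal) (α : X) : Norms α K := fun y =>
  ⟨fun h => by simpa [mul_assoc] using hK.conj_mem _ h α⁻¹, fun h => hK.conj_mem y h α⟩

end Transport

variable {m : ℕ} {F : Type*} [Field F]

local notation "V" => (Fin m ⊕ Fin m → F)
local notation "GS" => ↥(Cfsg.GSp m F)
local notation "Sp" => ↥(Matrix.symplecticGroup (Fin m) F)
local notation "P" => Cfsg.PSp m F

/-- A symplectic matrix as a similitude. -/
noncomputable def toGS (s : Sp) : GS :=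
  ⟨GeneralLinearGroup.mk'' s.1 (SymplecticGroup.symplectic_det s.2), mem_GSp_iff.2 ⟨1, fun u v => by
    rw [Units.val_one, one_mul]; exact form_mulVec s u v⟩⟩

theorem conj_mk_eq (s : Sp) : MulAut.conj (QuotientGroup.mk s : P) = innd (toGS s) := aut_ext fun t => by
  rw [innd_mk, MulAut.conj_apply, ← QuotientGroup.mk_inv, ← QuotientGroup.mk_mul, ← QuotientGroup.mk_mul]
  refine congrArg _ (Subtype.ext ?_)
  have h1 : (toGS s).1.1 = s.1 := rfl
  have h2 : ((toGS s).1⁻¹).1 = (s⁻¹).1 := Units.inv_eq_of_mul_eq_one_right (by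
    rw [h1, ← Submonoid.coe_mul, mul_inv_cancel, Submonoid.coe_one])
  show s.1 * t.1 * (s⁻¹).1 = (toGS s).1.1 * t.1 * ((toGS s).1⁻¹).1
  rw [h1, h2]

theorem mem_inn_iff {β : MulAut P} : β ∈ Cfsg.Inn P ↔ ∃ s : Sp, innd (toGS s) = β := by
  constructor
  · rintro ⟨x, rfl⟩
    obtain ⟨s, rfl⟩ := QuotientGroup.mk_surjective x
    exact ⟨s, (conj_mk_eq s).symm⟩
  · rintro ⟨s, rfl⟩
    exact ⟨QuotientGroup.mk s, conj_mk_eq s⟩

theorem inn_normal : (Cfsg.Inn P).Normal := ⟨fun _ ⟨x, hx⟩ α => ⟨α x, MulEquiv.ext fun y => by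
  simp [← hx]⟩⟩

theorem inn_le : Cfsg.Inn P ≤ (innd : GS →* MulAut P).range := fun β hβ => by
  obtain ⟨s, rfl⟩ := mem_inn_iff.1 hβ
  exact ⟨_, rfl⟩

/-- The similitude `diag(c, 1)` in the standard basis. -/
noncomputable def dg (c : Fˣ) : GS :=
  ⟨GeneralLinearGroup.mk'' (Matrix.diagonal (Sum.elim (fun _ => (c : F)) 1)) (by
      rw [Matrix.det_diagonal, Fintype.prod_sum_type]; simp [isUnit_iff_ne_zero]),
    mem_GSp_iff.2 ⟨c, fun u v => by
      rw [spB_apply, spB_apply, Cfsg.sympForm, Cfsg.sympForm, J_mulVec, J_mulVec]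
      show (Matrix.diagonal _ *ᵥ u) ⬝ᵥ _ = _
      simp only [dotProduct, Fintype.sum_sum_type, Sum.elim_inl, Sum.elim_inr, mul_add, Finset.mul_sum,
        GeneralLinearGroup.val_mk'', Matrix.mulVec_diagonal, Pi.one_apply]
      congr 1 <;> exact Finset.sum_congr rfl fun i _ => by ring⟩⟩

section Mu

variable [Fact (1 ≤ m)]

theorem mu_scS (c : Fˣ) : mu (scS c : GS) = c * c := mu_eq fun u v => by
  show spB m F ((sc c : GL (Fin m ⊕ Fin m) F).1 *ᵥ u) ((sc c : GL (Fin m ⊕ Fin m) F).1 *ᵥ v) = _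
  rw [sc_val, Matrix.smul_mulVec, Matrix.one_mulVec, Matrix.smul_mulVec, Matrix.one_mulVec, map_smul, map_smul,
    LinearMap.smul_apply, smul_eq_mul, smul_eq_mul, Units.val_mul]
  ring

theorem mu_toGS (s : Sp) : mu (toGS s) = 1 := mu_eq fun u v => by
  rw [Units.val_one, one_mul]; exact form_mulVec s u v

theorem exists_toGS {g : GS} (h : mu g = 1) : ∃ s : Sp, toGS s = g := by
  refine ⟨⟨g.1.1, (mem_symplecticGroup_iff _).2 fun u v => ?_⟩, Subtype.ext (Units.ext rfl)⟩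
  rw [mu_spec, h, Units.val_one, one_mul]

theorem mu_dg (c : Fˣ) : mu (dg c : GS) = c :=
  mu_eq (mem_GSp_iff.1 (dg c : GS).2).choose_spec |>.trans (by
    obtain ⟨z, hz⟩ := exists_pair (v := (Pi.single (Sum.inl ⟨0, (Fact.out : 1 ≤ m)⟩) 1 : V))
      (Pi.single_ne_zero_iff.2 one_ne_zero)
    have h1 := (mem_GSp_iff.1 (dg c : GS).2).choose_spec z (Pi.single (Sum.inl ⟨0, (Fact.out : 1 ≤ m)⟩) 1)
    rw [hz, mul_one, spB_apply, Cfsg.sympForm, J_mulVec] at h1
    rw [spB_apply, Cfsg.sympForm, J_mulVec] at hz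
    refine Units.ext (h1.symm.trans ?_)
    simp [dg, dotProduct, Fintype.sum_sum_type, Matrix.mulVec_diagonal, Pi.single_apply] at hz ⊢
    simp [hz])

theorem mu_smS (σ : F ≃+* F) (g : GS) : mu (smS σ g) = Units.map σ.toRingHom.toMonoidHom (mu g) :=
  mu_eq fun u v => by
    obtain ⟨u, rfl⟩ := exists_comp_eq σ u
    obtain ⟨v, rfl⟩ := exists_comp_eq σ v
    show spB m F ((g.1.1.map σ) *ᵥ (σ ∘ u)) ((g.1.1.map σ) *ᵥ (σ ∘ v)) = σ (mu g : F) * _
    rw [map_mulVec, map_mulVec, form_map, form_map, mu_spec, map_mul]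

end Mu

theorem spB_single_map {F₀ : Type*} [Field F₀] (i : F₀ →+* F) (a b : Fin m ⊕ Fin m) :
    i (spB m F₀ (Pi.single a 1) (Pi.single b 1)) = spB m F (Pi.single a 1) (Pi.single b 1) := by
  simp only [spB, Matrix.toBilin'_single]
  rcases a with a | a <;> rcases b with b | b <;> simp [Matrix.J, Matrix.one_apply, apply_ite i]

theorem mulVec_single_map {F₀ : Type*} [Field F₀] (i : F₀ →+* F) (g : GL (Fin m ⊕ Fin m) F₀)
    (a : Fin m ⊕ Fin m) : (GeneralLinearGroup.map i g).1 *ᵥ (Pi.single a 1 : V) = i ∘ (g.1 *ᵥ Pi.single a 1) :=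
  funext fun k => by simp [Matrix.mulVec_single_one]

theorem spB_map {F₀ : Type*} [Field F₀] (i : F₀ →+* F) (u v : Fin m ⊕ Fin m → F₀) :
    spB m F (i ∘ u) (i ∘ v) = i (spB m F₀ u v) := by
  simp only [spB_apply, Cfsg.sympForm, J_mulVec, dotProduct, Fintype.sum_sum_type, Sum.elim_inl, Sum.elim_inr,
    map_add, map_sum, map_mul, map_neg, Function.comp_apply]

theorem map_mem_GSp_iff {F₀ : Type*} [Field F₀] (i : F₀ →+* F) {g : GL (Fin m ⊕ Fin m) F₀} (hm : 1 ≤ m) :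
    GeneralLinearGroup.map i g ∈ Cfsg.GSp m F ↔ g ∈ Cfsg.GSp m F₀ := by
  constructor
  · intro hg
    obtain ⟨c, hc⟩ := mem_GSp_iff.1 hg
    obtain ⟨z, hz⟩ := exists_pair (v := (Pi.single (Sum.inl ⟨0, hm⟩) 1 : Fin m ⊕ Fin m → F₀))
      (Pi.single_ne_zero_iff.2 one_ne_zero)
    have hmv : ∀ u : Fin m ⊕ Fin m → F₀, (GeneralLinearGroup.map i g).1 *ᵥ (i ∘ u) = i ∘ (g.1 *ᵥ u) := fun u =>
      funext fun k => by simp [Matrix.mulVec, dotProduct, map_sum]
    have key : ∀ u v, i (spB m F₀ (g.1 *ᵥ u) (g.1 *ᵥ v)) = (c : F) * i (spB m F₀ u v) := fun u v => by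
      rw [← spB_map, ← hmv, ← hmv, hc, spB_map]
    set c₀ := spB m F₀ (g.1 *ᵥ z) (g.1 *ᵥ Pi.single (Sum.inl ⟨0, hm⟩) 1) with hc₀
    have hic : i c₀ = c := by rw [hc₀, key, hz, map_one, mul_one]
    have hne : c₀ ≠ 0 := fun h => c.ne_zero (by rw [← hic, h, map_zero])
    exact mem_GSp_iff.2 ⟨Units.mk0 c₀ hne, fun u v => i.injective (by rw [key, map_mul, Units.val_mk0, hic])⟩
  · intro hg
    obtain ⟨c, hc⟩ := mem_GSp_iff.1 hg
    refine mem_GSp_iff.2 ⟨Units.map i.toMonoidHom c, fun u v => ?_⟩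
    have : LinearMap.compl₁₂ (spB m F) (GeneralLinearGroup.map i g).1.mulVecLin
        (GeneralLinearGroup.map i g).1.mulVecLin = i (c : F₀) • spB m F :=
      LinearMap.ext_basis (Pi.basisFun F _) (Pi.basisFun F _) fun a b => by
        simp only [Pi.basisFun_apply, LinearMap.compl₁₂_apply, Matrix.mulVecLin_apply, LinearMap.smul_apply,
          smul_eq_mul]
        rw [mulVec_single_map, mulVec_single_map, spB_map, hc, map_mul, spB_single_map]
    exact LinearMap.congr_fun₂ this u v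

variable (p : ℕ) [Fact p.Prime] [CharP F p]

include p

theorem innd_eq_innd (hm : 1 ≤ m) {A B : GS} : (innd A : MulAut P) = innd B ↔ ∃ c : Fˣ, A = scS c * B := by
  rw [← mul_inv_eq_one, ← map_inv, ← map_mul, innd_eq_one_iff p hm]
  simp only [mul_inv_eq_iff_eq_mul]

theorem commute_fld_iff (hm : 1 ≤ m) (σ : F ≃+* F) (A : GS) :
    (innd A : MulAut P) * fld σ = fld σ * innd A ↔ ∃ c : Fˣ, sm σ A.1 = sc c * A.1 := by
  rw [fld_mul_innd, mul_left_inj, eq_comm, innd_eq_innd p hm]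
  exact exists_congr fun c => Subtype.ext_iff

variable [Fintype F]

theorem range_eq_inn_of_two (hm : 1 ≤ m) (hp : p = 2) : (innd : GS →* MulAut P).range = Cfsg.Inn P := by
  subst hp
  haveI : Fact (1 ≤ m) := ⟨hm⟩
  refine le_antisymm ?_ inn_le
  rintro _ ⟨g, rfl⟩
  obtain ⟨a, ha' : frobenius F 2 a = (mu g : F)⟩ :=
    (PerfectRing.bijective_frobenius (R := F) (p := 2)).surjective (mu g : F)
  have ha : a ^ 2 = (mu g : F) := ha'
  have ha0 : a ≠ 0 := fun h => (mu g).ne_zero (by rw [← ha, h, zero_pow two_ne_zero])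
  obtain ⟨s, hs⟩ := exists_toGS (g := scS (Units.mk0 a ha0)⁻¹ * g) (by
    rw [map_mul, mu_scS, ← sq, inv_pow, inv_mul_eq_one]
    exact Units.ext (by simpa using ha))
  exact mem_inn_iff.2 ⟨s, by rw [hs, map_mul, innd_scS, one_mul]⟩

/-- A field automorphism is conjugate to a standard one under the normaliser of `Inndiag`. -/
theorem exists_norms_conj {f : ℕ} (hm : 2 ≤ m) (hf : 1 ≤ f) (hF : Fintype.card F = p ^ f) {x : MulAut P}
    (hx : Cfsg.IsFieldAutClassPSp x) :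
    ∃ (σ : F ≃+* F) (α : MulAut P), Norms α (innd : GS →* MulAut P).range ∧ x = α * fld σ * α⁻¹ ∧
      orderOf σ = orderOf x := by
  obtain ⟨β, σ, -, hstd⟩ := hx
  rw [isStdField_iff] at hstd
  have hx' : x = β⁻¹ * fld σ * β⁻¹⁻¹ := by rw [← hstd]; group
  refine ⟨σ, β⁻¹, ?_, hx', by rw [hx', AutPSL.orderOf_conj, orderOf_injective _ (fld_injective p (by omega))]⟩
  by_cases hp : p = 2
  · rw [range_eq_inn_of_two p (by omega) hp]
    exact norms_of_normal inn_normal _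
  obtain ⟨g, τ, hβ⟩ := exists_decomp p hm (fun _ => hp) β⁻¹
  intro y
  rw [hβ]
  constructor
  · rintro ⟨A, hA⟩
    refine ⟨smS τ⁻¹ (g⁻¹ * A * g), mul_right_cancel (b := (fld τ⁻¹ : MulAut P)) ?_⟩
    rw [← fld_mul_innd, map_mul, map_mul, hA, map_inv, map_inv]
    group
  · rintro ⟨A, rfl⟩
    refine ⟨g * smS τ A * g⁻¹, ?_⟩
    rw [map_mul, map_mul, map_inv]
    rw [show (innd g * fld τ : MulAut P) * innd A * (innd g * fld τ)⁻¹ =
      innd g * (fld τ * innd A) * (fld τ)⁻¹ * (innd g)⁻¹ by group, fld_mul_innd]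
    group

/-- The centraliser of a standard field automorphism of prime order. -/
theorem field_centralizer (hm : 1 ≤ m) {σ : F ≃+* F} {r : ℕ} (hr : r.Prime) (hσ : orderOf σ = r)
    {F₀ : Type*} [Field F₀] (i : F₀ →+* F) (hi : ∀ x, σ x = x ↔ ∃ y, i y = x) :
    Nonempty (↥((innd : GS →* MulAut P).range ⊓ Subgroup.centralizer {fld σ}) ≃* Cfsg.PGSp m F₀) := by
  haveI : Fact r.Prime := ⟨hr⟩
  haveI : Nonempty (Fin m ⊕ Fin m) := ⟨Sum.inl ⟨0, hm⟩⟩
  have hfix : ∀ y, σ (i y) = i y := fun y => (hi _).2 ⟨y, rfl⟩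
  let j : ↥(Cfsg.GSp m F₀) →* GS :=
    ((GeneralLinearGroup.map i).comp (Cfsg.GSp m F₀).subtype).codRestrict _ fun g => (map_mem_GSp_iff i hm).2 g.2
  let φ : ↥(Cfsg.GSp m F₀) →* ↥((innd : GS →* MulAut P).range ⊓ Subgroup.centralizer {fld σ}) :=
    ((innd : GS →* MulAut P).comp j).codRestrict _ fun g =>
      Subgroup.mem_inf.2 ⟨⟨_, rfl⟩, Subgroup.mem_centralizer_singleton_iff.2
        ((commute_fld_iff p hm σ _).2 ⟨1, by rw [map_one, one_mul]; exact sm_map_gl i hfix g.1⟩)⟩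
  have hφ : Function.Surjective φ := by
    rintro ⟨_, ⟨A, rfl⟩, hA⟩
    obtain ⟨c, hc⟩ := (commute_fld_iff p hm σ A).1 (Subgroup.mem_centralizer_singleton_iff.1 hA)
    obtain ⟨d, B, hB, hAB⟩ := Descent.exists_fixed hσ A.1 hc
    have h : ∀ a b, ∃ y, i y = B.val a b := fun a b =>
      (hi _).1 (congrFun (congrFun (congrArg (fun x : GL (Fin m ⊕ Fin m) F => x.val) hB) a) b)
    choose M hM using h
    have hdet : IsUnit (Matrix.of M).det := by
      rw [isUnit_iff_ne_zero]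
      intro h0
      have h1 := congrArg i h0
      rw [map_zero, RingHom.map_det, show i.mapMatrix (Matrix.of M) = B.val from Matrix.ext hM] at h1
      exact (GeneralLinearGroup.det B).ne_zero h1
    have hg : GeneralLinearGroup.map i (GeneralLinearGroup.mk'' _ hdet) = B := Units.ext (Matrix.ext hM)
    have hmem : GeneralLinearGroup.map i (GeneralLinearGroup.mk'' _ hdet) ∈ Cfsg.GSp m F := by
      rw [hg, show B = ((scS d : GS)⁻¹ * A : GS).1 from by
        show B = (sc d)⁻¹ * A.1; rw [hAB, inv_mul_cancel_left]]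
      exact SetLike.coe_mem _
    refine ⟨⟨_, (map_mem_GSp_iff i hm).1 hmem⟩, Subtype.ext ((innd_eq_innd p hm).2 ⟨d⁻¹, Subtype.ext ?_⟩)⟩
    show GeneralLinearGroup.map i (GeneralLinearGroup.mk'' _ hdet) = sc d⁻¹ * A.1
    rw [hg, hAB, ← mul_assoc, ← map_mul, inv_mul_cancel, map_one, one_mul]
  have hker : φ.ker = (Cfsg.Geo.scalars (Fin m ⊕ Fin m) F₀).subgroupOf (Cfsg.GSp m F₀) := by
    ext g
    rw [MonoidHom.mem_ker, Subtype.ext_iff]
    show (innd (j g) : MulAut P) = 1 ↔ _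
    rw [innd_eq_one_iff p hm, Subgroup.mem_subgroupOf]
    constructor
    · rintro ⟨c, hc⟩
      have h1 : (GeneralLinearGroup.map i g.1).1 = (c : F) • (1 : Matrix (Fin m ⊕ Fin m) (Fin m ⊕ Fin m) F) :=
        (congrArg (fun x : GS => x.1.1) hc).trans (sc_val c)
      have h2 : ∀ a b, i (g.1.1 a b) = (c : F) * (if a = b then 1 else 0) := fun a b => by
        have := congrFun (congrFun h1 a) b
        simpa [Matrix.one_apply] using this
      let a₀ : Fin m ⊕ Fin m := Sum.inl ⟨0, hm⟩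
      have hne : g.1.1 a₀ a₀ ≠ 0 := fun h0 => c.ne_zero (by simpa [h0] using (h2 a₀ a₀).symm)
      refine ⟨Units.mk0 _ hne, Units.ext (Matrix.ext fun a b => i.injective ?_)⟩
      rw [h2 a b]
      simp [Matrix.diagonal_apply, apply_ite i, h2 a₀ a₀]
    · rintro ⟨c, hc⟩
      refine ⟨Units.map i.toMonoidHom c, Subtype.ext (Units.ext (Matrix.ext fun a b => ?_))⟩
      show i (g.1.1 a b) = _
      rw [← hc]
      simp [scS, Matrix.diagonal_apply, apply_ite i]
  exact ⟨((QuotientGroup.quotientMulEquivOfEq hker.symm).trans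
    (QuotientGroup.quotientKerEquivOfSurjective φ hφ)).symm⟩

theorem field_split (hm : 1 ≤ m) {σ : F ≃+* F} {r : ℕ} (hr : r.Prime) (hσ : orderOf σ = r) :
    Cfsg.splitClassCount (innd : GS →* MulAut P).range (Cfsg.Inn P) (fld σ) =
      Nat.gcd 2 ((Fintype.card F - 1) / (Nat.card (AutPSL.fixedF σ) - 1)) := by
  classical
  haveI : Fact r.Prime := ⟨hr⟩
  haveI : Fact (1 ≤ m) := ⟨hm⟩
  haveI : Nonempty (Fin m ⊕ Fin m) := ⟨Sum.inl ⟨0, hm⟩⟩
  haveI := inn_normal (m := m) (F := F)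
  let u : (AutPSL.fixedF σ)ˣ →* Fˣ := Units.map (AutPSL.fixedF σ).subtype.toMonoidHom
  have hu : Function.Injective u := Units.map_injective Subtype.val_injective
  let Q := (Fˣ ⧸ u.range) ⧸ (powMonoidHom (α := Fˣ ⧸ u.range) 2).range
  let f : GS →* Q := ((QuotientGroup.mk' _).comp (QuotientGroup.mk' u.range)).comp mu
  have hsurj : Function.Surjective f :=
    ((QuotientGroup.mk'_surjective _).comp (QuotientGroup.mk'_surjective u.range)).comp fun a => ⟨dg a, mu_dg a⟩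
  have hmem : ∀ g, f g = 1 ↔ ∃ (a : Fˣ) (b : u.range), mu g = a ^ 2 * b := by
    intro g
    show QuotientGroup.mk (QuotientGroup.mk (mu g) : Fˣ ⧸ u.range) = _ ↔ _
    rw [QuotientGroup.eq_one_iff]
    constructor
    · rintro ⟨y, hy⟩
      obtain ⟨a, rfl⟩ := QuotientGroup.mk_surjective y
      rw [powMonoidHom_apply, ← QuotientGroup.mk_pow, QuotientGroup.eq] at hy
      exact ⟨a, ⟨_, hy⟩, by rw [mul_inv_cancel_left]⟩
    · rintro ⟨a, b, hab⟩
      exact ⟨QuotientGroup.mk a, by rw [powMonoidHom_apply, ← QuotientGroup.mk_pow, hab,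
        QuotientGroup.mk_mul, (QuotientGroup.eq_one_iff (b : Fˣ)).2 b.2, mul_one]⟩
  rw [AutPSL.splitClassCount_eq innd (Cfsg.Inn P) inn_le (fld σ) f hsurj (fun g => ?_)]
  · show Nat.card ((Fˣ ⧸ u.range) ⧸ (powMonoidHom (α := Fˣ ⧸ u.range) 2).range) = _
    rw [← Subgroup.index_eq_card, IsCyclic.index_powMonoidHom_range, ← Subgroup.index_eq_card, Nat.gcd_comm]
    congr 1
    have h := Subgroup.card_mul_index u.range
    rw [← Nat.card_congr (MonoidHom.ofInjective hu).toEquiv, Nat.card_units, Nat.card_units,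
      Nat.card_eq_fintype_card (α := F)] at h
    rw [← h, Nat.mul_div_cancel_left]
    have : 1 < Nat.card (AutPSL.fixedF σ) := Finite.one_lt_card
    omega
  rw [hmem]
  constructor
  · rintro ⟨a, ⟨_, b, rfl⟩, hab⟩
    have hC : (innd (dg (u b)) : MulAut P) * fld σ = fld σ * innd (dg (u b)) := by
      refine (commute_fld_iff p hm σ _).2 ⟨1, ?_⟩
      rw [map_one, one_mul]
      refine Units.ext (Matrix.ext fun x y => ?_)
      show σ ((Matrix.diagonal (Sum.elim (fun _ => (u b : F)) 1)) x y) = _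
      have hb : σ (u b : F) = (u b : F) := (b : AutPSL.fixedF σ).2
      rcases x with x | x <;> rcases y with y | y <;> simp [dg, Matrix.diagonal_apply, apply_ite σ, hb]
    obtain ⟨s, hs⟩ := exists_toGS (g := g * (scS a * dg (u b))⁻¹) (by
      rw [map_mul, map_inv, map_mul, mu_scS, mu_dg, ← sq, hab, mul_inv_cancel])
    refine ⟨innd (toGS s), mem_inn_iff.2 ⟨s, rfl⟩, dg (u b), hC, ?_⟩
    rw [hs, map_mul, map_inv, map_mul, innd_scS, one_mul, inv_mul_cancel_right]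
  · rintro ⟨k, hk, C, hC, he⟩
    obtain ⟨s, rfl⟩ := mem_inn_iff.1 hk
    rw [← map_mul, innd_eq_innd p hm] at he
    obtain ⟨c, rfl⟩ := he
    obtain ⟨e, he⟩ := (commute_fld_iff p hm σ C).1 hC
    obtain ⟨d, B, hB, hCB⟩ := Descent.exists_fixed hσ C.1 he
    set B' : GS := (scS d)⁻¹ * C with hB'
    have hfix : σ (mu B' : F) = mu B' := by
      have h1 : smS σ B' = B' := Subtype.ext (by
        show sm σ ((sc d)⁻¹ * C.1) = (sc d)⁻¹ * C.1
        rw [hCB, inv_mul_cancel_left, hB])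
      exact congrArg Units.val ((mu_smS σ B').symm.trans (congrArg mu h1))
    have hne : (⟨_, hfix⟩ : AutPSL.fixedF σ) ≠ 0 := fun h => (mu B').ne_zero (congrArg Subtype.val h)
    refine ⟨c * d, ⟨_, Units.mk0 _ hne, rfl⟩, ?_⟩
    have : C = scS d * B' := by rw [hB', mul_inv_cancel_left]
    rw [this, map_mul, map_mul, map_mul, mu_scS, mu_scS, mu_toGS, one_mul, sq, mul_mul_mul_comm c d]
    simp only [mul_assoc]
    exact congrArg (fun y => c * (c * (d * (d * y)))) (Units.ext rfl)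

end Cfsg.Lib.Linear.AutPSp
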