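import Cfsg.Agent.Lib.Linear.AutPSp.Main
import Cfsg.Agent.Lib.Linear.AutPSL.FieldCentralizer
import Cfsg.Agent.Lib.Linear.SymplecticDecomp

/-!
# Field automorphisms of prime order of `PSp_2m(q)`

The coset `Inndiag · fld σ` has one class of elements of order `r` (descent for the conformal symplectic group), the
centraliser is `PGSp_2m(q₀)` and the class splits as the multipliers modulo squares and `q₀`-multipliers.
-/

set_option autoImplicit false

namespace Cfsg.Lib.Linear.AutPSp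

open Matrix Module Cfsg.Lib.Linear.Symp
open Cfsg.Lib.Linear.Descent (sc sm tw nrm sc_val sc_comm sm_sc sm_one sm_mul)

set_option quotPrecheck false

variable {m : ℕ} {F : Type*} [Field F]

local notation "V" => (Fin m ⊕ Fin m → F)
local notation "GS" => ↥(Cfsg.GSp m F)
local notation "P" => Cfsg.PSp m F

/-- An alternating nondegenerate form on `F ^ (2 m)` is standard in suitable coordinates. -/
theorem exists_std_coords {ω : LinearMap.BilinForm F V} (hA : ω.IsAlt) (hN : ω.Nondegenerate) :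
    ∃ C : GL (Fin m ⊕ Fin m) F, ∀ u v : V, ω (C.1 *ᵥ u) (C.1 *ᵥ v) = spB m F u v := by
  let B : LinearMap.BilinForm F (V × V) :=
    ω.compl₁₂ (LinearMap.fst F V V) (LinearMap.fst F V V) +
      (spB m F).compl₁₂ (LinearMap.snd F V V) (LinearMap.snd F V V)
  have hB : B.IsAlt := fun x => by simp [B, hA.self_eq_zero, form_self]
  let X : Submodule F (V × V) := LinearMap.range (LinearMap.inr F V V)
  let Y : Submodule F (V × V) := LinearMap.range (LinearMap.inl F V V)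
  have hX : NondegOn B X := by
    rintro _ ⟨v, rfl⟩ hv
    obtain ⟨z, hz⟩ := exists_pair (show v ≠ 0 from fun h => hv (by rw [h, map_zero]))
    exact ⟨LinearMap.inr F V V z, ⟨z, rfl⟩, by simp [B, form_swap v z, hz]⟩
  have hY : NondegOn B Y := by
    rintro _ ⟨v, rfl⟩ hv
    obtain ⟨z, hz⟩ : ∃ z, ω v z ≠ 0 := by
      by_contra hc
      push_neg at hc
      exact hv (by rw [hN.1 v hc, map_zero])
    exact ⟨LinearMap.inl F V V z, ⟨z, rfl⟩, by simpa [B] using hz⟩
  have hdX : finrank F X = finrank F V := LinearMap.finrank_range_of_inj LinearMap.inr_injective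
  have hdY : finrank F Y = finrank F V := LinearMap.finrank_range_of_inj LinearMap.inl_injective
  obtain ⟨φ, hφY, hφ⟩ := exists_isometry_between hB _ X Y le_rfl hX hY (by rw [hdX, hdY])
  let L : V →ₗ[F] V := LinearMap.fst F V V ∘ₗ φ ∘ₗ (LinearMap.inr F V V).rangeRestrict
  have hL : ∀ u v, ω (L u) (L v) = spB m F u v := fun u v => by
    have h := hφ ((LinearMap.inr F V V).rangeRestrict u) ((LinearMap.inr F V V).rangeRestrict v)
    obtain ⟨a, ha⟩ := hφY ((LinearMap.inr F V V).rangeRestrict u)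
    obtain ⟨b, hb⟩ := hφY ((LinearMap.inr F V V).rangeRestrict v)
    simp only [L, LinearMap.comp_apply]
    rw [← ha, ← hb] at h ⊢
    simpa [B] using h
  have hinj : Function.Injective L := by
    refine (injective_iff_map_eq_zero L).2 fun u hu => (spB_nondegenerate m F).1 u fun v => ?_
    rw [← hL, hu, map_zero, LinearMap.zero_apply]
  have hdet : IsUnit (LinearMap.toMatrix' L).det := by
    rw [LinearMap.det_toMatrix']
    exact LinearEquiv.isUnit_det' (LinearEquiv.ofBijective L ⟨hinj, LinearMap.surjective_of_injective hinj⟩)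
  refine ⟨GeneralLinearGroup.mk'' _ hdet, fun u v => ?_⟩
  show ω (LinearMap.toMatrix' L *ᵥ u) (LinearMap.toMatrix' L *ᵥ v) = _
  rw [LinearMap.toMatrix'_mulVec, LinearMap.toMatrix'_mulVec, hL]

theorem map_mulVec (σ : F ≃+* F) (M : Matrix (Fin m ⊕ Fin m) (Fin m ⊕ Fin m) F) (v : V) :
    (M.map σ) *ᵥ (σ ∘ v) = σ ∘ (M *ᵥ v) := funext fun i => by
  simp [Matrix.mulVec, dotProduct, map_sum]

theorem exists_comp_eq (σ : F ≃+* F) (v : V) : ∃ u : V, σ ∘ u = v :=
  ⟨σ.symm ∘ v, funext fun i => σ.apply_symm_apply _⟩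

section Multiplier

variable [Fact (1 ≤ m)]

/-- The multiplier of a similitude. -/
noncomputable def mu : GS →* Fˣ where
  toFun g := (mem_GSp_iff.1 g.2).choose
  map_one' := by
    set c := (mem_GSp_iff.1 (1 : GS).2).choose with hc
    have hspec := (mem_GSp_iff.1 (1 : GS).2).choose_spec
    obtain ⟨z, hz⟩ := exists_pair (v := (Pi.single (Sum.inl ⟨0, (Fact.out : 1 ≤ m)⟩) 1 : V))
      (Pi.single_ne_zero_iff.2 one_ne_zero)
    have := hspec z (Pi.single (Sum.inl ⟨0, (Fact.out : 1 ≤ m)⟩) 1)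
    rw [← hc, OneMemClass.coe_one, Units.val_one, Matrix.one_mulVec, Matrix.one_mulVec, hz, mul_one] at this
    exact Units.ext this.symm
  map_mul' g h := by
    obtain ⟨z, hz⟩ := exists_pair (v := (Pi.single (Sum.inl ⟨0, (Fact.out : 1 ≤ m)⟩) 1 : V))
      (Pi.single_ne_zero_iff.2 one_ne_zero)
    have h1 := (mem_GSp_iff.1 (g * h).2).choose_spec z (Pi.single (Sum.inl ⟨0, (Fact.out : 1 ≤ m)⟩) 1)
    have h2 : spB m F ((g.1.1 * h.1.1) *ᵥ z) ((g.1.1 * h.1.1) *ᵥ Pi.single (Sum.inl ⟨0, (Fact.out : 1 ≤ m)⟩) 1) =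
        ((mem_GSp_iff.1 (g * h).2).choose : F) * spB m F z (Pi.single (Sum.inl ⟨0, (Fact.out : 1 ≤ m)⟩) 1) := h1
    rw [← Matrix.mulVec_mulVec, ← Matrix.mulVec_mulVec, (mem_GSp_iff.1 g.2).choose_spec,
      (mem_GSp_iff.1 h.2).choose_spec, hz, mul_one, mul_one] at h2
    exact Units.ext (by rw [Units.val_mul]; exact h2.symm)

theorem mu_spec (g : GS) (u v : V) :
    spB m F (g.1.1 *ᵥ u) (g.1.1 *ᵥ v) = (mu g : F) * spB m F u v :=
  (mem_GSp_iff.1 g.2).choose_spec u v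

theorem mu_eq {g : GS} {c : Fˣ} (h : ∀ u v : V, spB m F (g.1.1 *ᵥ u) (g.1.1 *ᵥ v) = (c : F) * spB m F u v) :
    mu g = c := by
  obtain ⟨z, hz⟩ := exists_pair (v := (Pi.single (Sum.inl ⟨0, (Fact.out : 1 ≤ m)⟩) 1 : V))
    (Pi.single_ne_zero_iff.2 one_ne_zero)
  have h1 := mu_spec g z (Pi.single (Sum.inl ⟨0, (Fact.out : 1 ≤ m)⟩) 1)
  rw [h, hz, mul_one, mul_one] at h1
  exact Units.ext h1.symm

end Multiplier

theorem sm_map_gl {F₀ : Type*} [Field F₀] {σ : F ≃+* F} (i : F₀ →+* F) (hi : ∀ y, σ (i y) = i y)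
    (g : GL (Fin m ⊕ Fin m) F₀) : sm σ (GeneralLinearGroup.map i g) = GeneralLinearGroup.map i g :=
  Units.ext (Matrix.ext fun a b => hi _)

/-- Scalar similitudes. -/
def scS : Fˣ →* GS :=
  (sc (ι := Fin m ⊕ Fin m) (F := F)).codRestrict _ fun c => mem_GSp_iff.2 ⟨c * c, fun u v => by
    rw [sc_val, Matrix.smul_mulVec, Matrix.one_mulVec, Matrix.smul_mulVec, Matrix.one_mulVec, map_smul, map_smul,
      LinearMap.smul_apply, smul_eq_mul, smul_eq_mul, Units.val_mul]
    ring⟩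

/-- A field automorphism on similitudes. -/
def smS (σ : F ≃+* F) : GS →* GS :=
  ((sm σ).comp (Cfsg.GSp m F).subtype).codRestrict _ fun g => by
    obtain ⟨c, hc⟩ := mem_GSp_iff.1 g.2
    refine mem_GSp_iff.2 ⟨Units.map σ.toRingHom.toMonoidHom c, fun u v => ?_⟩
    obtain ⟨u, rfl⟩ := exists_comp_eq σ u
    obtain ⟨v, rfl⟩ := exists_comp_eq σ v
    show spB m F ((g.1.1.map σ) *ᵥ (σ ∘ u)) ((g.1.1.map σ) *ᵥ (σ ∘ v)) = σ (c : F) * _
    rw [map_mulVec, map_mulVec, form_map, form_map, hc, map_mul]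

theorem tS_mem_GSp (v : V) (c : F) : ∃ g : GS, g.1.1 = (tS v c).1 := by
  have hdet : IsUnit (tS v c).1.det := SymplecticGroup.symplectic_det (tS v c).2
  exact ⟨⟨GeneralLinearGroup.mk'' _ hdet, mem_GSp_iff.2 ⟨1, fun u w => by
    rw [Units.val_one, one_mul]; exact form_mulVec (tS v c) u w⟩⟩, rfl⟩

theorem innd_scS (c : Fˣ) : (innd (scS c : GS) : MulAut P) = 1 := aut_ext fun s => by
  rw [innd_mk, MulAut.one_apply]
  refine congrArg _ (Subtype.ext ?_)
  show (sc c : GL (Fin m ⊕ Fin m) F).1 * s.1 * ((sc c : GL (Fin m ⊕ Fin m) F)⁻¹).1 = s.1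
  rw [← map_inv, sc_val, sc_val]
  simp

theorem fld_mul_innd (σ : F ≃+* F) (A : GS) : (fld σ : MulAut P) * innd A = innd (smS σ A) * fld σ :=
  aut_ext fun s => by
    rw [MulAut.mul_apply, MulAut.mul_apply, innd_mk, fld_mk, fld_mk, innd_mk]
    refine congrArg _ (Subtype.ext ?_)
    show (A.1.1 * s.1 * (A.1⁻¹).1).map σ = (A.1.1.map σ) * s.1.map σ * ((sm σ A.1)⁻¹).1
    rw [← map_inv, Descent.sm_val, Matrix.map_mul, Matrix.map_mul]

variable (p : ℕ) [Fact p.Prime] [CharP F p]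

include p

/-- The kernel of `innd` consists of the scalars. -/
theorem innd_mul_fld_eq_one {A : GS} {σ : F ≃+* F} (hm : 1 ≤ m) (h : (innd A * fld σ : MulAut P) = 1) :
    (∃ c : Fˣ, A = scS c) ∧ σ = 1 := by
  classical
  obtain ⟨μ, hμ⟩ := mem_GSp_iff.1 A.2
  have hline : ∀ v : V, v ≠ 0 → ∃ a : F, A.1.1 *ᵥ (σ ∘ v) = a • v := by
    intro v hv
    have h1 := DFunLike.congr_fun h (QuotientGroup.mk (tS v 1))
    rw [MulAut.mul_apply, MulAut.one_apply, fld_mk, innd_mk, cnj_frob_tS A σ hμ] at h1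
    obtain ⟨a, -, ha, -⟩ := tS_inj hv one_ne_zero (mk_inj_of_pow p (tS_pow_char _ _) (tS_pow_char _ _) h1).symm
    exact ⟨a, ha⟩
  let e : Fin m ⊕ Fin m → V := fun i => Pi.single i 1
  have he : ∀ i, e i ≠ 0 := fun i => Pi.single_ne_zero_iff.2 one_ne_zero
  have hσe : ∀ i, σ ∘ e i = e i := fun i => funext fun j => by simp [e, Pi.single_apply, apply_ite σ]
  choose d hd using fun i => hline (e i) (he i)
  simp only [hσe] at hd
  let i₀ : Fin m ⊕ Fin m := Sum.inl ⟨0, by omega⟩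
  let i₁ : Fin m ⊕ Fin m := Sum.inr ⟨0, by omega⟩
  have hd0 : ∀ i, d i ≠ 0 := fun i hi => by
    have := congrArg (fun y : V => (A.1⁻¹).1 *ᵥ y) (hd i)
    simp [Matrix.mulVec_mulVec, hi] at this
    exact he i this
  have hrel : ∀ i j, i ≠ j → ∀ a : F, a ≠ 0 → σ a * d j = a * d i := by
    intro i j hij a ha
    have hne : e i + a • e j ≠ 0 := fun h0 => by
      have := congrFun h0 i
      simp [e, hij] at this
    obtain ⟨b, hb⟩ := hline _ hne
    rw [show σ ∘ (e i + a • e j) = σ ∘ e i + σ a • (σ ∘ e j) from funext fun k => by simp, hσe, hσe, Matrix.mulVec_add,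
      Matrix.mulVec_smul, hd, hd] at hb
    have c1 := congrFun hb i
    have c2 := congrFun hb j
    simp [e, hij, hij.symm] at c1 c2
    rw [c1, c2, mul_comm]
  have hdall : ∀ i j, d i = d j := fun i j => by
    rcases eq_or_ne i j with rfl | hij
    · rfl
    · have := hrel i j hij 1 one_ne_zero
      rw [map_one, one_mul, one_mul] at this
      exact this.symm
  refine ⟨⟨Units.mk0 (d i₀) (hd0 _), Subtype.ext (Units.ext (Matrix.ext fun i j => ?_))⟩, RingEquiv.ext fun a => ?_⟩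
  · have := congrFun (hd j) i
    simp only [e, Matrix.mulVec_single_one, Matrix.col_apply] at this
    show A.1.1 i j = (sc (Units.mk0 (d i₀) (hd0 _)) : GL (Fin m ⊕ Fin m) F).1 i j
    rw [this, sc_val]
    simp [hdall j i₀, Pi.single_apply, Matrix.one_apply]
  · rcases eq_or_ne a 0 with rfl | ha
    · simp
    have := hrel i₀ i₁ (by simp [i₀, i₁]) a ha
    rw [hdall i₁ i₀] at this
    exact mul_right_cancel₀ (hd0 i₀) this

theorem fld_injective (hm : 1 ≤ m) : Function.Injective (fld : (F ≃+* F) →* MulAut P) := fun σ τ h => by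
  refine mul_inv_eq_one.1 (innd_mul_fld_eq_one p hm (A := 1) (σ := σ * τ⁻¹) ?_).2
  rw [map_one, one_mul, map_mul, map_inv, h, mul_inv_cancel]

theorem innd_eq_one_iff (hm : 1 ≤ m) {A : GS} : (innd A : MulAut P) = 1 ↔ ∃ c : Fˣ, A = scS c :=
  ⟨fun h => (innd_mul_fld_eq_one p hm (σ := 1) (by rw [map_one, mul_one, h])).1, fun ⟨c, hc⟩ => hc ▸ innd_scS c⟩

variable [Fintype F]

theorem inndiag_eq_range : Cfsg.inndiagPSp m F = (innd : GS →* MulAut P).range := by
  refine le_antisymm ((Subgroup.closure_le _).2 ?_) ?_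
  · rintro β ⟨g, hg, hβ⟩
    refine ⟨⟨g, hg⟩, aut_ext fun s => ?_⟩
    rw [innd_mk]
    exact (hβ s (cnj ⟨g, hg⟩ s) (by
      show g.1 * s.1 * (g⁻¹).1 = _
      congr 2)).symm
  · rintro _ ⟨g, rfl⟩
    refine Subgroup.subset_closure ⟨g.1, g.2, ?_⟩
    have := isInduced_innd_mul_fld g (1 : F ≃+* F)
    rwa [map_one, mul_one] at this

omit p [Fact p.Prime] [CharP F p] in
theorem isStdField_iff {σ : F ≃+* F} {β : MulAut P} : Cfsg.IsStdFieldAutPSp σ β ↔ β = fld σ := by
  constructor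
  · intro h
    exact aut_ext fun s => (h s (frob σ s) rfl).trans (fld_mk σ s).symm
  · rintro rfl s s' hs
    rw [fld_mk]
    exact congrArg _ (Subtype.ext hs.symm)

/-- A field automorphism is, up to `Inndiag`-conjugation, standard. -/
theorem field_class {f : ℕ} (hm : 2 ≤ m) (hmp : m = 2 → p ≠ 2) (hf : 1 ≤ f) (hF : Fintype.card F = p ^ f)
    {x : MulAut P} (hx : Cfsg.IsFieldAutClassPSp x) :
    ∃ (σ : F ≃+* F) (g : GS), x = innd g * fld σ * (innd g)⁻¹ ∧ orderOf σ = orderOf x := by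
  obtain ⟨α, σ, -, hstd⟩ := hx
  rw [isStdField_iff] at hstd
  obtain ⟨g, τ, hα⟩ := exists_decomp p hm hmp α⁻¹
  have hcomm : (fld τ : MulAut P) * fld σ = fld σ * fld τ := by
    rw [← map_mul, ← map_mul, AutPSL.ringEquiv_comm hf hF]
  have hg : x = innd g * fld σ * (innd g)⁻¹ := by
    calc x = α⁻¹ * (α * x * α⁻¹) * α⁻¹⁻¹ := by group
      _ = innd g * (fld τ * fld σ) * (fld τ)⁻¹ * (innd g)⁻¹ := by rw [hstd, hα]; group
      _ = innd g * fld σ * (innd g)⁻¹ := by rw [hcomm]; group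
  exact ⟨σ, g, hg, by rw [hg, AutPSL.orderOf_conj, orderOf_injective _ (fld_injective p (by omega))]⟩

omit p [Fact p.Prime] [CharP F p] [Fintype F] in
theorem innd_fld_pow (σ : F ≃+* F) (A : GS) :
    ∀ k : ℕ, ∃ T : GS, T.1 = tw σ A.1 k ∧ ((innd A * fld σ : MulAut P)) ^ k = innd T * fld (σ ^ k) := by
  intro k
  induction k with
  | zero => exact ⟨1, by simp [tw], by simp⟩
  | succ k ih =>
    obtain ⟨T, hT, e⟩ := ih
    refine ⟨A * smS σ T, by rw [tw, ← hT]; rfl, ?_⟩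
    rw [pow_succ', e, pow_succ' σ, map_mul, map_mul fld, mul_assoc, ← mul_assoc (fld σ), fld_mul_innd]
    simp only [mul_assoc]

theorem field_coset (hm : 1 ≤ m) {σ : F ≃+* F} {r : ℕ} (hr : r.Prime) (hσ : orderOf σ = r) (A : GS) :
    orderOf (innd A * fld σ : MulAut P) = r ↔
      Cfsg.IsConjUnder (innd : GS →* MulAut P).range (fld σ) (innd A * fld σ) := by
  haveI : Fact r.Prime := ⟨hr⟩
  haveI : Fact (1 ≤ m) := ⟨hm⟩
  haveI : Nonempty (Fin m ⊕ Fin m) := ⟨Sum.inl ⟨0, by omega⟩⟩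
  constructor
  · intro h
    obtain ⟨T, hT, e⟩ := innd_fld_pow σ A r
    rw [← h, pow_orderOf_eq_one, h, ← hσ, pow_orderOf_eq_one, map_one, mul_one, eq_comm, innd_eq_one_iff p hm] at e
    obtain ⟨c, hc⟩ := e
    obtain ⟨d, B, hB⟩ := Descent.exists_sc_mul hσ A.1 (c := c) (by rw [← hT, hc]; rfl)
    -- `A' = B σ(B)⁻¹` is a similitude
    set A' : GS := scS d⁻¹ * A with hA'
    have hA'B : A'.1 * sm σ B = B := by
      show sc d⁻¹ * A.1 * sm σ B = B
      rw [hB, ← mul_assoc, ← map_mul, inv_mul_cancel, map_one, one_mul, inv_mul_cancel_right]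
    -- the pulled back form
    set ω : LinearMap.BilinForm F V := (spB m F).compl₁₂ B.1.mulVecLin B.1.mulVecLin with hω
    have hωσ : ∀ u v : V, (mu A' : F) * σ (ω u v) = ω (σ ∘ u) (σ ∘ v) := fun u v => by
      show (mu A' : F) * σ (spB m F (B.1 *ᵥ u) (B.1 *ᵥ v)) = spB m F (B.1 *ᵥ (σ ∘ u)) (B.1 *ᵥ (σ ∘ v))
      conv_rhs => rw [show B.1 = A'.1.1 * B.1.map σ from (congrArg Units.val hA'B).symm]
      rw [← Matrix.mulVec_mulVec, ← Matrix.mulVec_mulVec, map_mulVec, map_mulVec, mu_spec, form_map]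
    obtain ⟨u₀, v₀, h₀⟩ : ∃ u v : V, ω u v ≠ 0 ∧ σ ∘ u = u ∧ σ ∘ v = v := by
      by_contra hc'
      push_neg at hc'
      have hzero : ω = 0 := LinearMap.ext_basis (Pi.basisFun F _) (Pi.basisFun F _) fun i j => by
        by_contra hne
        refine hc' (Pi.single i 1) (Pi.single j 1) (by simpa using hne) (funext fun k => ?_) (funext fun k => ?_) <;>
          simp [Pi.single_apply, apply_ite σ]
      let i : Fin m ⊕ Fin m := Sum.inl ⟨0, by omega⟩
      obtain ⟨z, hz⟩ := exists_pair (v := B.1 *ᵥ (Pi.single i 1 : V)) fun h0 => by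
        have := congrArg (fun y : V => (B⁻¹).1 *ᵥ y) h0
        rw [Matrix.mulVec_mulVec, Units.inv_mul, Matrix.one_mulVec, Matrix.mulVec_zero] at this
        exact Pi.single_ne_zero_iff.2 one_ne_zero this
      have h1 : ω ((B⁻¹).1 *ᵥ z) (Pi.single i 1) = 1 := by
        show spB m F (B.1 *ᵥ _) (B.1 *ᵥ _) = 1
        rw [Matrix.mulVec_mulVec, Units.mul_inv, Matrix.one_mulVec, hz]
      rw [hzero] at h1
      simp at h1
    obtain ⟨h₀, hu₀, hv₀⟩ := h₀
    -- coordinates over the fixed field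
    let F₀ := AutPSL.fixedF σ
    let ι₀ : F₀ →+* F := F₀.subtype
    set ω' : V → V → F := fun u v => ω u v / ω u₀ v₀ with hω'
    have hfix : ∀ u v : Fin m ⊕ Fin m → F₀, ω' (ι₀ ∘ u) (ι₀ ∘ v) ∈ F₀ := fun u v => by
      show σ (_ / _) = _ / _
      have h1 := hωσ (ι₀ ∘ u) (ι₀ ∘ v)
      have h2 := hωσ u₀ v₀
      rw [hu₀, hv₀] at h2
      rw [show σ ∘ (ι₀ ∘ u) = ι₀ ∘ u from funext fun k => (u k).2,
        show σ ∘ (ι₀ ∘ v) = ι₀ ∘ v from funext fun k => (v k).2] at h1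
      have hne : σ (ω u₀ v₀) ≠ 0 := fun h0 => h₀ (σ.injective (h0.trans (map_zero σ).symm))
      rw [map_div₀, div_eq_div_iff hne h₀]
      conv_lhs => rw [← h2]
      conv_rhs => rw [← h1]
      ring
    let M₀ : Matrix (Fin m ⊕ Fin m) (Fin m ⊕ Fin m) F₀ := Matrix.of fun i j =>
      ⟨_, hfix (Pi.single i 1) (Pi.single j 1)⟩
    set ω₀ : LinearMap.BilinForm F₀ (Fin m ⊕ Fin m → F₀) := Matrix.toBilin' M₀ with hω₀
    have hω₀ω : ∀ u v : Fin m ⊕ Fin m → F₀, ι₀ (ω₀ u v) = ω' (ι₀ ∘ u) (ι₀ ∘ v) := fun u v => by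
      have hs : ∀ i : Fin m ⊕ Fin m, ι₀ ∘ (Pi.single i 1 : Fin m ⊕ Fin m → F₀) = Pi.single i 1 := fun i =>
        funext fun k => by simp [Pi.single_apply, apply_ite ι₀]
      show ι₀ (Matrix.toBilin' M₀ u v) = ω (ι₀ ∘ u) (ι₀ ∘ v) / ω u₀ v₀
      rw [show ω (ι₀ ∘ u) (ι₀ ∘ v) = Matrix.toBilin' (LinearMap.BilinForm.toMatrix' ω) (ι₀ ∘ u) (ι₀ ∘ v) by
        rw [Matrix.toBilin'_toMatrix']]
      rw [Matrix.toBilin'_apply, Matrix.toBilin'_apply]
      simp only [map_sum, map_mul, Finset.sum_div, LinearMap.BilinForm.toMatrix'_apply, Function.comp_apply]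
      refine Finset.sum_congr rfl fun i _ => ?_
      refine Finset.sum_congr rfl fun j _ => ?_
      show ι₀ (u i) * (ω (ι₀ ∘ (Pi.single i 1 : Fin m ⊕ Fin m → F₀)) (ι₀ ∘ (Pi.single j 1 : Fin m ⊕ Fin m → F₀)) /
        ω u₀ v₀) * ι₀ (v j) = _
      rw [hs, hs]
      ring
    have hA₀ : ω₀.IsAlt := fun u => ι₀.injective (by
      rw [hω₀ω, map_zero]
      show spB m F _ _ / _ = 0
      rw [form_self, zero_div])
    have hN₀ : ω₀.Nondegenerate := by
      refine LinearMap.BilinForm.Nondegenerate.ofSeparatingLeft ?_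
      intro u hu
      by_contra hu0
      have hne : ι₀ ∘ u ≠ 0 := fun h0 => hu0 (funext fun k => ι₀.injective (by
        have := congrFun h0 k
        simpa using this))
      have hall : ∀ j : Fin m ⊕ Fin m, ω (ι₀ ∘ u) (Pi.single j 1) = 0 := fun j => by
        have := congrArg ι₀ (hu (Pi.single j 1))
        rw [hω₀ω, map_zero] at this
        rw [show (ι₀ ∘ (Pi.single j 1 : Fin m ⊕ Fin m → F₀)) = Pi.single j 1 from
          funext fun k => by simp [Pi.single_apply, apply_ite ι₀]] at this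
        exact (div_eq_zero_iff.1 this).resolve_right h₀
      have hz : ∀ v : V, ω (ι₀ ∘ u) v = 0 := fun v => by
        rw [pi_eq_sum_univ' v, map_sum]
        simp [hall]
      obtain ⟨z, hz'⟩ := exists_pair (v := B.1 *ᵥ (ι₀ ∘ u)) fun h0 => hne (by
        have := congrArg (fun y : V => (B⁻¹).1 *ᵥ y) h0
        simpa [Matrix.mulVec_mulVec] using this)
      have h1 := hz ((B⁻¹).1 *ᵥ z)
      change spB m F (B.1 *ᵥ _) (B.1 *ᵥ _) = 0 at h1
      rw [Matrix.mulVec_mulVec z B.1, Units.mul_inv, Matrix.one_mulVec, form_swap, hz'] at h1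
      simp at h1
    obtain ⟨C₀, hC₀⟩ := exists_std_coords hA₀ hN₀
    set C := GeneralLinearGroup.map (n := Fin m ⊕ Fin m) ι₀ C₀ with hC
    have hBC : B * C ∈ Cfsg.GSp m F := by
      refine mem_GSp_iff.2 ⟨Units.mk0 _ h₀, fun u v => ?_⟩
      have hs : ∀ i : Fin m ⊕ Fin m, ι₀ ∘ (Pi.single i 1 : Fin m ⊕ Fin m → F₀) = Pi.single i 1 := fun i =>
        funext fun k => by simp [Pi.single_apply, apply_ite ι₀]
      have hCs : ∀ i, C.1 *ᵥ (Pi.single i 1 : V) = ι₀ ∘ (C₀.1 *ᵥ Pi.single i 1) := fun i => funext fun k => by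
        simp [hC, Matrix.mulVec_single_one]
      have key : ∀ i j, ω (C.1 *ᵥ (Pi.single i 1 : V)) (C.1 *ᵥ (Pi.single j 1 : V)) =
          ω u₀ v₀ * spB m F (Pi.single i 1) (Pi.single j 1) := fun i j => by
        have := hω₀ω (C₀.1 *ᵥ Pi.single i 1) (C₀.1 *ᵥ Pi.single j 1)
        rw [hC₀, ← hCs, ← hCs] at this
        have hJ : ι₀ (spB m F₀ (Pi.single i 1) (Pi.single j 1)) = spB m F (Pi.single i 1) (Pi.single j 1) := by
          simp only [spB, Matrix.toBilin'_single]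
          rcases i with i | i <;> rcases j with j | j <;> simp [Matrix.J, Matrix.one_apply, apply_ite ι₀]
        rw [hJ] at this
        rw [this, hω']
        field_simp
      have : LinearMap.compl₁₂ ω C.1.mulVecLin C.1.mulVecLin = ω u₀ v₀ • spB m F :=
        LinearMap.ext_basis (Pi.basisFun F _) (Pi.basisFun F _) fun i j => by simpa using key i j
      have h2 := LinearMap.congr_fun₂ this u v
      simp only [hω, LinearMap.compl₁₂_apply, Matrix.mulVecLin_apply, LinearMap.smul_apply, smul_eq_mul] at h2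
      rw [Units.val_mul, ← Matrix.mulVec_mulVec, ← Matrix.mulVec_mulVec]
      exact h2
    refine ⟨innd ⟨B * C, hBC⟩, ⟨_, rfl⟩, ?_⟩
    rw [← map_inv, mul_assoc, fld_mul_innd, ← mul_assoc, ← map_mul]
    congr 1
    have h5 : A = scS d * (⟨B * C, hBC⟩ * smS σ ⟨B * C, hBC⟩⁻¹) := by
      refine Subtype.ext ?_
      show A.1 = sc d * (B * C * sm σ (B * C)⁻¹)
      rw [map_inv, map_mul, sm_map_gl ι₀ (fun y => y.2), _root_.mul_inv_rev, ← mul_assoc (B * C),
        mul_inv_cancel_right, hB]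
    rw [h5, map_mul, innd_scS, one_mul]
  · rintro ⟨h, -, e⟩
    rw [e, AutPSL.orderOf_conj, orderOf_injective _ (fld_injective p hm), hσ]

end Cfsg.Lib.Linear.AutPSp
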