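import Cfsg.Agent.Lib.Linear.AutPSp.Count
import Cfsg.Agent.Lib.Core.Cores

/-!
# Balance in almost simple groups with socle `PSp_2m(q)`

The only normal subgroup of order prime to `p` of the centraliser of a field automorphism `x` of order `p`, when `p`
divides the order of the fixed points, is trivial: such a subgroup centralises `PSp_2m(q₀)`, whose centraliser in the
automorphism group is generated by `x`.
-/

set_option autoImplicit false

namespace Cfsg.Lib.Linear.AutPSp

open Matrix Module Cfsg.Lib.Linear.Symp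
open scoped LinearAlgebra.Projectivization

theorem center_or_commutator_le {F V : Type*} [Field F] [AddCommGroup V] [Module F V] [FiniteDimensional F V]
    {B : LinearMap.BilinForm F V} (hB : B.Nondegenerate) (hA : B.IsAlt)
    (N : Subgroup (iso B)) [N.Normal] : N ≤ Subgroup.center (iso B) ∨ commutator (iso B) ≤ N := by
  haveI := isPreprimitive (B := B) hB hA
  by_cases h : MulAction.fixedPoints N (ℙ F V) = Set.univ
  · left
    intro g hg
    rw [Subgroup.mem_center_iff]
    intro k
    have hline : ∀ v : V, ∃ a : F, (g : V ≃ₗ[F] V) v = a • v := fun v => by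
      rcases eq_or_ne v 0 with rfl | hv
      · exact ⟨0, by simp⟩
      · have := (Set.eq_univ_iff_forall.1 h (Projectivization.mk F v hv)) ⟨g, hg⟩
        change g • Projectivization.mk F v hv = _ at this
        rw [smul_mk', Projectivization.mk_eq_mk_iff'] at this
        obtain ⟨a, ha⟩ := this
        exact ⟨a, ha.symm⟩
    obtain ⟨a, ha⟩ := LinearMap.exists_eq_smul_id_of_forall_notLinearIndependent
      (f := ((g : V ≃ₗ[F] V) : V →ₗ[F] V)) (fun v hli => by
        obtain ⟨a, ha⟩ := hline v
        rw [LinearEquiv.coe_coe, ha] at hli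
        exact hli.ne_zero 1 (by
          by_contra _
          rcases eq_or_ne a 0 with rfl | ha0
          · exact hli.ne_zero 1 (by simp)
          · have := LinearIndependent.pair_iff.1 hli a (-1) (by simp)
            simp at this))
    refine Subtype.ext (LinearEquiv.ext fun x => ?_)
    have hg' : ∀ y, (g : V ≃ₗ[F] V) y = a • y := fun y => by
      simpa using LinearMap.congr_fun ha y
    show (k : V ≃ₗ[F] V) ((g : V ≃ₗ[F] V) x) = (g : V ≃ₗ[F] V) ((k : V ≃ₗ[F] V) x)
    rw [hg', hg', map_smul]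
  · right
    exact (iwasawa hB hA).commutator_le N h


set_option quotPrecheck false

variable {m : ℕ} {F : Type*} [Field F]

local notation "V" => (Fin m ⊕ Fin m → F)
local notation "Sp" => ↥(Matrix.symplecticGroup (Fin m) F)
local notation "P" => Cfsg.PSp m F
local notation "GS" => ↥(Cfsg.GSp m F)

theorem sp_center_or_commutator_le (D : Subgroup Sp) [D.Normal] : D ≤ Subgroup.center Sp ∨ commutator Sp ≤ D := by
  let e := spEquiv (m := m) (F := F)
  haveI : (D.map e.toMonoidHom).Normal := Subgroup.Normal.map inferInstance _ e.surjective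
  rcases center_or_commutator_le (spB_nondegenerate m F) (spB_isAlt m F) (D.map e.toMonoidHom) with h | h
  · left
    intro x hx
    refine Subgroup.mem_center_iff.2 fun y => e.injective ?_
    rw [map_mul, map_mul]
    exact Subgroup.mem_center_iff.1 (h ⟨x, hx, rfl⟩) (e y)
  · right
    intro x hx
    obtain ⟨y, hy, he⟩ := h (show e x ∈ commutator _ by
      have h1 : (commutator Sp).map e.toMonoidHom ≤ commutator _ := by
        rw [commutator_def, Subgroup.map_commutator]
        exact Subgroup.commutator_mono le_top le_top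
      exact h1 ⟨x, hx, rfl⟩)
    rwa [← e.injective he]

/-- A symplectic matrix over the fixed field as one over `F`. -/
noncomputable def jF (σ : F ≃+* F) : ↥(Matrix.symplecticGroup (Fin m) (AutPSL.fixedF σ)) →* Sp where
  toFun s := ⟨s.1.map (AutPSL.fixedF σ).subtype, by
    rw [SymplecticGroup.mem_iff]
    have h := congrArg (fun M : Matrix _ _ (AutPSL.fixedF σ) => M.map (AutPSL.fixedF σ).subtype) (SymplecticGroup.mem_iff.1 s.2)
    have hJ : (Matrix.J (Fin m) (AutPSL.fixedF σ)).map (AutPSL.fixedF σ).subtype = Matrix.J (Fin m) F := by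
      ext i j
      rcases i with i | i <;> rcases j with j | j <;> simp [Matrix.J, Matrix.one_apply, apply_ite Subtype.val]
    simp only [Matrix.map_mul, Matrix.transpose_map, hJ] at h
    exact h⟩
  map_one' := Subtype.ext (by simp)
  map_mul' s t := Subtype.ext (by
    show (s.1 * t.1).map (AutPSL.fixedF σ).subtype = _
    rw [Matrix.map_mul]; rfl)

theorem frob_jF (σ : F ≃+* F) (s) : frob σ (jF (m := m) σ s) = jF σ s :=
  Subtype.ext (Matrix.ext fun a b => (s.1 a b).2)

theorem exists_jF {σ : F ≃+* F} {t : Sp} (h : frob σ t = t) : ∃ s, jF σ s = t := by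
  have hfix : ∀ a b, t.1 a b ∈ AutPSL.fixedF σ := fun a b =>
    congrFun (congrFun (congrArg Subtype.val h) a) b
  refine ⟨⟨Matrix.of fun a b => ⟨t.1 a b, hfix a b⟩, ?_⟩, Subtype.ext (Matrix.ext fun a b => rfl)⟩
  rw [SymplecticGroup.mem_iff]
  refine Matrix.map_injective (f := (AutPSL.fixedF σ).subtype) Subtype.val_injective ?_
  have hJ : (Matrix.J (Fin m) (AutPSL.fixedF σ)).map (AutPSL.fixedF σ).subtype = Matrix.J (Fin m) F := by
    ext i j
    rcases i with i | i <;> rcases j with j | j <;> simp [Matrix.J, Matrix.one_apply, apply_ite Subtype.val]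
  simp only [Matrix.map_mul, Matrix.transpose_map, hJ]
  exact SymplecticGroup.mem_iff.1 t.2

theorem jF_injective (σ : F ≃+* F) : Function.Injective (jF (m := m) σ) := fun s t h =>
  Subtype.ext (Matrix.ext fun a b => Subtype.ext (congrFun (congrFun (congrArg Subtype.val h) a) b))

theorem jF_tS (σ : F ≃+* F) {v : V} {c : F} (hv : σ ∘ v = v) (hc : σ c = c) :
    ∃ s, jF σ s = tS v c := exists_jF (by
  refine sp_ext fun x => ?_
  obtain ⟨y, rfl⟩ : ∃ y : V, σ ∘ y = x := ⟨σ.symm ∘ x, funext fun i => σ.apply_symm_apply _⟩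
  show ((tS v c).1.map σ) *ᵥ (σ ∘ y) = _
  have : ((tS v c).1.map σ) *ᵥ (σ ∘ y) = σ ∘ ((tS v c).1 *ᵥ y) := funext fun i => by
    simp [Matrix.mulVec, dotProduct, map_sum]
  rw [this, tS_mulVec, tS_mulVec]
  funext i
  have hf : spB m F (σ ∘ y) v = σ (spB m F y v) := by conv_lhs => rw [← hv, form_map]
  simp only [hf, Function.comp_apply, Pi.add_apply, Pi.smul_apply, smul_eq_mul, map_add, map_mul, hc]
  rw [show σ (v i) = v i from congrFun hv i])

theorem mem_center_of_jF (σ : F ≃+* F) {s : ↥(Matrix.symplecticGroup (Fin m) (AutPSL.fixedF σ))}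
    (h : s ∈ Subgroup.center _) : jF σ s ∈ Subgroup.center Sp := by
  obtain ⟨a, -, ha⟩ := center_smul h
  refine mem_center_of_smul (a : F) fun x => ?_
  have hs : s.1 = (a : AutPSL.fixedF σ) • (1 : Matrix (Fin m ⊕ Fin m) (Fin m ⊕ Fin m) (AutPSL.fixedF σ)) := by
    refine Matrix.ext fun i j => ?_
    have := congrFun (ha (Pi.single j 1)) i
    rw [Matrix.mulVec_single_one] at this
    simpa [Matrix.one_apply, Pi.single_apply] using this
  show (s.1.map (AutPSL.fixedF σ).subtype) *ᵥ x = _
  rw [hs]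
  funext i
  simp [Matrix.mulVec, dotProduct, Matrix.one_apply, apply_ite Subtype.val]

/-- The automorphisms `innd g * fld σ`. -/
def plainAut : Subgroup (MulAut P) where
  carrier := {β | ∃ (g : GS) (σ : F ≃+* F), β = innd g * fld σ}
  one_mem' := ⟨1, 1, by simp⟩
  mul_mem' := by
    rintro _ _ ⟨A, σ, rfl⟩ ⟨B, τ, rfl⟩
    refine ⟨A * smS σ B, σ * τ, ?_⟩
    rw [map_mul, map_mul fld, mul_assoc, ← mul_assoc (fld σ : MulAut P), fld_mul_innd]
    simp only [mul_assoc]
  inv_mem' := by
    rintro _ ⟨A, σ, rfl⟩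
    refine ⟨smS σ⁻¹ A⁻¹, σ⁻¹, ?_⟩
    rw [← fld_mul_innd, _root_.mul_inv_rev, map_inv, map_inv]

variable (r : ℕ) [Fact r.Prime] [CharP F r] [Fintype F]

include r

theorem mem_plainAut_of_odd (hm : 2 ≤ m) {p : ℕ} (hp : m = 2 → r = 2 → Odd p) {x : MulAut P} (hx : x ^ p = 1) :
    x ∈ (plainAut : Subgroup (MulAut P)) := by
  by_cases h : m = 2 ∧ r = 2
  · obtain ⟨rfl, rfl⟩ := h
    obtain ⟨k, hk⟩ := hp rfl rfl
    have key : ∀ z ∈ (plainAut : Subgroup (MulAut (Cfsg.PSp 2 F))), graphP * z * graphP⁻¹ ∈ plainAut := by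
      intro z hz
      obtain ⟨g, σ, e | e⟩ := decomp_four (graphP * z * graphP⁻¹)
      · exact ⟨g, σ, e⟩
      · exfalso
        have h1 : z * graphP⁻¹ = innd g * fld σ := mul_left_cancel (by rw [← mul_assoc, e])
        have h2 : graphP = (innd g * fld σ)⁻¹ * z := by rw [← h1]; group
        obtain ⟨g', σ', e'⟩ : graphP ∈ (plainAut : Subgroup (MulAut (Cfsg.PSp 2 F))) :=
          h2 ▸ mul_mem (inv_mem ⟨g, σ, rfl⟩) hz
        exact graphP_ne g' σ' e'
    have hsq : ∀ y : MulAut (Cfsg.PSp 2 F), y * y ∈ plainAut := by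
      intro y
      obtain ⟨g, σ, rfl | rfl⟩ := decomp_four y
      · exact mul_mem ⟨g, σ, rfl⟩ ⟨g, σ, rfl⟩
      · have e : graphP * (innd g * fld σ) * (graphP * (innd g * fld σ)) =
            graphP * (innd g * fld σ) * graphP⁻¹ * (graphP * graphP) * (innd g * fld σ) := by group
        rw [e]
        exact mul_mem (mul_mem (key _ ⟨g, σ, rfl⟩) ⟨1, sqAut, by rw [map_one, one_mul, graphP_sq]⟩) ⟨g, σ, rfl⟩
    have e : x = x ^ (k + 1) * x ^ (k + 1) := by
      rw [← pow_add, show k + 1 + (k + 1) = p + 1 by omega, pow_succ, hx, one_mul]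
    rw [e]
    exact hsq _
  · exact exists_decomp r hm (fun a b => h ⟨a, b⟩) x

theorem mem_plainAut_of_fix (hm : 2 ≤ m) {β : MulAut P}
    (h : β (QuotientGroup.mk (tS (Pi.single (Sum.inl ⟨0, by omega⟩) 1 : V) 1)) =
      QuotientGroup.mk (tS (Pi.single (Sum.inl ⟨0, by omega⟩) 1 : V) 1)) :
    β ∈ (plainAut : Subgroup (MulAut P)) := by
  by_cases hh : m = 2 ∧ r = 2
  · obtain ⟨rfl, rfl⟩ := hh
    exact exists_decomp_of_presT (presT_of_image e0_ne h) (presT_inv_of_image e0_ne h)
  · exact exists_decomp r hm (fun a b => hh ⟨a, b⟩) β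

/-- An automorphism fixing `PSp_2m(q₀)` pointwise is a power of the field automorphism. -/
theorem mem_zpowers_of_fix (hm : 2 ≤ m) (σ : F ≃+* F) {β : MulAut P}
    (h : ∀ s, β (QuotientGroup.mk (jF σ s)) = QuotientGroup.mk (jF σ s)) :
    ∃ i : ℤ, β = fld σ ^ i := by
  classical
  have hfix : ∀ (v : V) (c : F), σ ∘ v = v → σ c = c →
      β (QuotientGroup.mk (tS v c)) = QuotientGroup.mk (tS v c) := fun v c hv hc => by
    obtain ⟨s, hs⟩ := jF_tS σ hv hc
    rw [← hs]; exact h s
  let e : Fin m ⊕ Fin m → V := fun i => Pi.single i 1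
  have hσe : ∀ i, σ ∘ e i = e i := fun i => funext fun j => by simp [e, Pi.single_apply, apply_ite σ]
  obtain ⟨g, τ, rfl⟩ := mem_plainAut_of_fix r hm (hfix (e (Sum.inl ⟨0, by omega⟩)) 1 (hσe _) (map_one σ))
  obtain ⟨μ, hμ⟩ := mem_GSp_iff.1 g.2
  have hline : ∀ (v : V) (c : F), σ ∘ v = v → σ c = c → v ≠ 0 → c ≠ 0 →
      ∃ a : F, g.1.1 *ᵥ (τ ∘ v) = a • v ∧ c = a ^ 2 * (τ c * ((μ⁻¹ : Fˣ) : F)) := by
    intro v c hv hc hv0 hc0
    have h1 := hfix v c hv hc
    rw [MulAut.mul_apply, fld_mk, innd_mk, cnj_frob_tS g τ hμ] at h1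
    obtain ⟨a, -, ha, ha'⟩ := tS_inj hv0 hc0 (mk_inj_of_pow r (tS_pow_char _ _) (tS_pow_char _ _) h1).symm
    exact ⟨a, ha, ha'⟩
  have he0 : ∀ i, e i ≠ 0 := fun i => Pi.single_ne_zero_iff.2 one_ne_zero
  have hτe : ∀ i, τ ∘ e i = e i := fun i => funext fun j => by simp [e, Pi.single_apply, apply_ite τ]
  choose a ha ha' using fun i => hline (e i) 1 (hσe i) (map_one σ) (he0 i) one_ne_zero
  simp only [hτe] at ha
  have hall : ∀ i j, a i = a j := by
    intro i j
    rcases eq_or_ne i j with rfl | hij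
    · rfl
    have hne : e i + e j ≠ 0 := fun h0 => by have := congrFun h0 i; simp [e, hij] at this
    obtain ⟨b, hb, -⟩ := hline (e i + e j) 1 (by rw [← hσe i, ← hσe j]; funext k; simp [e, Pi.single_apply, apply_ite σ])
      (map_one σ) hne one_ne_zero
    rw [show τ ∘ (e i + e j) = τ ∘ e i + τ ∘ e j from funext fun k => by simp, hτe, hτe, Matrix.mulVec_add, ha, ha] at hb
    have c1 := congrFun hb i
    have c2 := congrFun hb j
    simp [e, hij, hij.symm] at c1 c2
    rw [c1, c2]
  let i₀ : Fin m ⊕ Fin m := Sum.inl ⟨0, by omega⟩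
  have ha0 : a i₀ ≠ 0 := fun h0 => one_ne_zero (α := F) (by rw [ha' i₀, h0]; ring)
  obtain ⟨rfl⟩ : Nonempty (g = scS (Units.mk0 (a i₀) ha0)) := ⟨Subtype.ext (Units.ext (Matrix.ext fun i j => by
    have := congrFun (ha j) i
    simp only [e, Matrix.mulVec_single_one, Matrix.col_apply] at this
    show g.1.1 i j = (Descent.sc (Units.mk0 (a i₀) ha0) : GL (Fin m ⊕ Fin m) F).1 i j
    rw [this, Descent.sc_val]
    simp [hall j i₀, Pi.single_apply, Matrix.one_apply]))⟩
  rw [innd_scS, one_mul]
  have hτ : ∀ c, σ c = c → τ c = c := by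
    intro c hc
    rcases eq_or_ne c 0 with rfl | hc0
    · simp
    obtain ⟨b, hb, hb'⟩ := hline (e i₀) c (hσe _) hc (he0 _) hc0
    rw [hτe, ha] at hb
    rw [← smul_left_injective F (he0 i₀) hb] at hb'
    have h1 := ha' i₀
    rw [map_one, one_mul] at h1
    linear_combination (-1 : F) * hb' + τ c * h1
  haveI : Finite (F ≃+* F) := Finite.of_injective (fun σ => (σ : F → F)) fun a b h => RingEquiv.ext (congrFun h)
  let G := Subgroup.zpowers (σ : RingAut F)
  let τ' : F →ₐ[FixedPoints.subfield G F] F := ⟨τ.toRingHom, fun c => by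
    show τ (c : F) = c
    exact hτ c (c.2 ⟨σ, Subgroup.mem_zpowers _⟩)⟩
  obtain ⟨⟨_, i, rfl⟩, hg⟩ := (FixedPoints.toAlgHom_bijective G F).surjective τ'
  refine ⟨i, ?_⟩
  rw [← map_zpow]
  exact congrArg fld (RingEquiv.ext fun x => (AlgHom.congr_fun hg x).symm)

omit [Fintype F] in
theorem conj_inj (hm : 1 ≤ m) : Function.Injective (MulAut.conj : P →* MulAut P) := by
  refine (injective_iff_map_eq_one _).2 fun k hk => ?_
  obtain ⟨s, rfl⟩ := QuotientGroup.mk_surjective k
  exact eq_one_of_innd_toGS r hm (by rw [← conj_mk_eq, hk])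

theorem exists_conj_fld (hm : 2 ≤ m) {p : ℕ} [Fact p.Prime] (hpr : p ≠ r) {x : MulAut P} (hord : orderOf x = p)
    (hnot : ¬ Cfsg.IsInnerDiagonalAutPSp x) :
    ∃ (σ : F ≃+* F) (a : MulAut P), orderOf σ = p ∧ x = a * fld σ * a⁻¹ := by
  obtain ⟨g, σ, rfl⟩ := mem_plainAut_of_odd r hm (p := p) (fun _ h2 =>
    (Fact.out : p.Prime).odd_of_ne_two (h2 ▸ hpr)) (hord ▸ pow_orderOf_eq_one x)
  have hσ : σ ≠ 1 := fun h => hnot ⟨g.1, g.2, by
    subst h
    exact isInduced_innd_mul_fld g (1 : F ≃+* F)⟩
  have hσp : orderOf σ = p := by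
    refine orderOf_eq_prime ?_ hσ
    obtain ⟨T, -, e⟩ := innd_fld_pow σ g p
    rw [← hord, pow_orderOf_eq_one, hord, eq_comm] at e
    exact (innd_mul_fld_eq_one r (by omega) e).2
  obtain ⟨h, -, e⟩ := (field_coset r (by omega) (Fact.out : p.Prime) hσp g).1 hord
  exact ⟨σ, h, hσp, e⟩

set_option maxHeartbeats 1000000 in
/-- **Failure of balance**. -/
theorem balance_iff (hm : 2 ≤ m) (A : Subgroup (MulAut P)) (hinn : ∀ k : P, MulAut.conj k ∈ A) {p : ℕ}
    [Fact p.Prime] (hpr : p ≠ r) {x : MulAut P} (hxA : x ∈ A) (hord : orderOf x = p) {σ : F ≃+* F}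
    {a : MulAut P} (hσ : orderOf σ = p) (hx : x = a * fld σ * a⁻¹) :
    Cfsg.pPrimeCore p ↥(A ⊓ Subgroup.centralizer {x}) ≠ ⊥ ↔
      Nat.Coprime p (Nat.card ↥(MonoidHom.eqLocus x.toMonoidHom (MonoidHom.id P))) := by
  classical
  haveI : Finite P := inferInstance
  haveI : Finite (MulAut P) := Finite.of_injective (fun σ => (σ : P → P)) fun a b h => MulEquiv.ext (congrFun h)
  set C := A ⊓ Subgroup.centralizer {x} with hC
  set K := MonoidHom.eqLocus x.toMonoidHom (MonoidHom.id P) with hK
  have hcomm : ∀ (β : MulAut P) (k : P), β * MulAut.conj k * β⁻¹ = MulAut.conj (β k) := fun β k =>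
    MulEquiv.ext fun y => by simp
  let c : ↥K →* ↥C := ((MulAut.conj : P →* MulAut P).comp K.subtype).codRestrict C fun k =>
    Subgroup.mem_inf.2 ⟨hinn _, Subgroup.mem_centralizer_singleton_iff.2 (by
      have hk : x k.1 = k.1 := k.2
      have h1 := hcomm x k.1
      rw [hk, mul_inv_eq_iff_eq_mul] at h1
      exact h1.symm)⟩
  have hcinj : Function.Injective c := fun k l h =>
    Subtype.ext (conj_inj r (by omega) (congrArg Subtype.val h))
  have hcn : ∀ (b : ↥C) (k : ↥K), ∃ k', b * c k * b⁻¹ = c k' := fun b k => by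
    refine ⟨⟨b.1 k.1, ?_⟩, Subtype.ext (hcomm b.1 k.1)⟩
    show x (b.1 k.1) = b.1 k.1
    rw [← MulAut.mul_apply, ← Subgroup.mem_centralizer_singleton_iff.1 b.2.2, MulAut.mul_apply]
    exact congrArg b.1 k.2
  have hfx : ∀ k : P, fld σ k = k → a k ∈ K := fun k hk => by
    show x (a k) = a k
    rw [hx]; simp [hk]
  let ψ : ↥(Matrix.symplecticGroup (Fin m) (AutPSL.fixedF σ)) →* ↥K :=
    ((a.toMonoidHom.comp ((QuotientGroup.mk' (Subgroup.center Sp)).comp (jF σ)))).codRestrict K fun s =>
      hfx _ ((fld_mk σ _).trans (congrArg _ (frob_jF σ s)))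
  have hψ : ∀ s, (ψ s).1 = a (QuotientGroup.mk (jF σ s)) := fun s => rfl
  let i₀ : Fin m := ⟨0, by omega⟩
  let e₀ : V := Pi.single (Sum.inl i₀) 1
  have he₀ : σ ∘ e₀ = e₀ := funext fun j => by simp [e₀, Pi.single_apply, apply_ite σ]
  constructor
  · intro hne
    by_contra hdiv
    have hp : p.Prime := Fact.out
    rw [hp.coprime_iff_not_dvd, not_not] at hdiv
    set M := Cfsg.pPrimeCore p ↥C with hM
    haveI : M.Normal := by rw [hM]; infer_instance
    have hMp : ∀ m ∈ M, m ^ p = 1 → m = 1 := fun y hy h1 => by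
      have h2 := orderOf_dvd_of_pow_eq_one h1
      have h3 := Subgroup.orderOf_dvd_natCard M hy
      exact orderOf_eq_one_iff.1 (Nat.eq_one_of_dvd_coprimes
        (Core.pPrimeCore_coprime p ↥C).symm h2 h3)
    -- an element of order `p` in the image of `ψ`
    obtain ⟨s₀, hs₀, hs₀p⟩ : ∃ s, ψ s ≠ 1 ∧ ψ s ^ p = 1 := by
      rcases hp.eq_two_or_odd' with rfl | hodd
      · have h2 : (2 : F) ≠ 0 := fun h => hpr ((Nat.prime_dvd_prime_iff_eq Fact.out Nat.prime_two).1
          ((CharP.cast_eq_zero_iff F r 2).1 (by exact_mod_cast h))).symm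
        set d : Fin m ⊕ Fin m → F := fun i => Sum.elim (fun k => if k = i₀ then -1 else 1) (fun k => if k = i₀ then -1 else 1) i
          with hd
        have hmem : Matrix.diagonal d ∈ Matrix.symplecticGroup (Fin m) F := by
          rw [mem_symplecticGroup_iff]
          intro u v
          rw [spB_apply, spB_apply, Cfsg.sympForm, Cfsg.sympForm, J_mulVec, J_mulVec]
          simp only [dotProduct, Fintype.sum_sum_type, Matrix.mulVec_diagonal, hd, Sum.elim_inl, Sum.elim_inr]
          congr 1 <;> refine Finset.sum_congr rfl fun k _ => ?_ <;> split_ifs <;> ring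
        obtain ⟨s, hs⟩ := exists_jF (σ := σ) (t := (⟨_, hmem⟩ : Sp)) (Subtype.ext (by
          show (Matrix.diagonal d).map σ = Matrix.diagonal d
          rw [Matrix.diagonal_map (map_zero σ)]
          congr 1
          funext i
          rcases i with k | k <;> by_cases hk : k = i₀ <;> simp [hd, hk]))
        refine ⟨s, fun h0 => ?_, ?_⟩
        · have h1 : (QuotientGroup.mk (jF σ s) : P) = 1 := a.injective (by
            rw [map_one, ← hψ, h0]; rfl)
          obtain ⟨b, -, hb⟩ := center_smul ((QuotientGroup.eq_one_iff _).1 h1)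
          rw [hs] at hb
          have c1 := congrFun (hb e₀) (Sum.inl i₀)
          have c2 := congrFun (hb (Pi.single (Sum.inl ⟨1, by omega⟩) 1)) (Sum.inl ⟨1, by omega⟩)
          simp [e₀, hd, i₀, Fin.ext_iff] at c1 c2
          exact h2 (by linear_combination c2 - c1)
        · refine Subtype.ext ?_
          rw [← map_pow, hψ, show jF σ (s ^ 2) = 1 from by
            rw [map_pow, hs]
            refine Subtype.ext ?_
            rw [SubmonoidClass.coe_pow, pow_two]
            show Matrix.diagonal d * Matrix.diagonal d = 1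
            rw [Matrix.diagonal_mul_diagonal, ← Matrix.diagonal_one]
            congr 1
            funext i
            rcases i with k | k <;> by_cases hk : k = i₀ <;> simp [hd, hk],
            QuotientGroup.mk_one, map_one]
          rfl
      · obtain ⟨k, hk⟩ := exists_prime_orderOf_dvd_card' p hdiv
        obtain ⟨t, ht⟩ := QuotientGroup.mk_surjective (a⁻¹ k.1)
        have hk2 : frob σ (t * t) = t * t := by
          have h1 : (QuotientGroup.mk (frob σ t) : P) = QuotientGroup.mk t := by
            rw [← fld_mk, ht]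
            have h2 : x k.1 = k.1 := k.2
            rw [hx, MulAut.mul_apply, MulAut.mul_apply] at h2
            exact a.injective (h2.trans (by simp))
          obtain ⟨b, hb1, hb⟩ := center_smul (QuotientGroup.eq.1 h1.symm)
          refine sp_ext fun y => ?_
          have he : ∀ y, (frob σ t).1 *ᵥ y = b • (t.1 *ᵥ y) := fun y => by
            conv_lhs => rw [← mul_inv_cancel_left t (frob σ t), coe_mul_mulVec, hb, Matrix.mulVec_smul]
          rw [map_mul, coe_mul_mulVec, coe_mul_mulVec, he, he, Matrix.mulVec_smul, smul_smul, hb1, one_smul]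
        obtain ⟨s, hs⟩ := exists_jF hk2
        have hks : ψ s = k * k := Subtype.ext (by
          rw [hψ, hs, QuotientGroup.mk_mul, ht, map_mul, MulAut.inv_def, MulEquiv.apply_symm_apply]; rfl)
        refine ⟨s, fun h0 => ?_, ?_⟩
        · rw [hks, ← pow_two, ← orderOf_dvd_iff_pow_eq_one, hk] at h0
          obtain ⟨j, rfl⟩ := hodd
          have := Nat.le_of_dvd (by norm_num) h0
          have := hp.two_le
          omega
        · rw [hks, ← pow_two, ← pow_mul, mul_comm, pow_mul, ← hk, pow_orderOf_eq_one, one_pow]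
    -- `M` meets the image trivially
    let φ := c.comp ψ
    have htriv : ∀ s, φ s ∈ M → φ s = 1 := by
      haveI : (M.comap φ).Normal := Subgroup.Normal.comap inferInstance φ
      rcases sp_center_or_commutator_le (M.comap φ) with h | h
      · intro s hs
        have : ψ s = 1 := Subtype.ext (by
          rw [hψ, (QuotientGroup.eq_one_iff _).2 (mem_center_of_jF σ (h hs)), map_one]; rfl)
        show c (ψ s) = 1
        rw [this, map_one]
      · exfalso
        haveI := Subgroup.Normal.quotient_commutative_iff_commutator_le.2 h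
        have hall : ∀ s, (QuotientGroup.mk s : _ ⧸ M.comap φ) ^ r = 1 := by
          intro s
          have hs : spEquiv s ∈ Subgroup.closure {t : iso (spB m (AutPSL.fixedF σ)) |
              ∃ v c, t = tvG (spB_isAlt m (AutPSL.fixedF σ)) v c} := by
            rw [closure_tvG (spB_nondegenerate m _) (spB_isAlt m _)]; trivial
          obtain ⟨s', hs', rfl⟩ : ∃ s', spEquiv s' = spEquiv s ∧ s' = s := ⟨s, rfl, rfl⟩
          suffices ∀ t, t ∈ Subgroup.closure {t : iso (spB m (AutPSL.fixedF σ)) |
              ∃ v c, t = tvG (spB_isAlt m (AutPSL.fixedF σ)) v c} →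
              (QuotientGroup.mk ((spEquiv (m := m)).symm t) : _ ⧸ M.comap φ) ^ r = 1 by
            have := this _ hs
            rwa [MulEquiv.symm_apply_apply] at this
          intro t ht
          induction ht using Subgroup.closure_induction with
          | mem t ht =>
            obtain ⟨v, c, rfl⟩ := ht
            have : spEquiv.symm (tvG (spB_isAlt m (AutPSL.fixedF σ)) v c) = tS v c := by
              rw [MulEquiv.symm_apply_eq]
              refine Subtype.ext (LinearEquiv.ext fun y => ?_)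
              rw [spEquiv_apply, tS_mulVec]
              rfl
            haveI hchar : CharP (AutPSL.fixedF σ) r := (AutPSL.fixedF σ).subtype.charP Subtype.val_injective r
            rw [this, ← QuotientGroup.mk_pow, tS_pow_char, QuotientGroup.mk_one]
          | one => rw [map_one, QuotientGroup.mk_one, one_pow]
          | mul u w _ _ hu hw =>
            rw [map_mul, QuotientGroup.mk_mul, (show Commute _ _ from mul_comm' _ _).mul_pow, hu, hw, one_mul]
          | inv u _ hu => rw [map_inv, QuotientGroup.mk_inv, inv_pow, hu, inv_one]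
        have h1 : φ s₀ ^ r ∈ M := by
          have := hall s₀
          rw [← QuotientGroup.mk_pow, QuotientGroup.eq_one_iff, Subgroup.mem_comap, map_pow] at this
          exact this
        have h2 : φ s₀ ^ p = 1 := by
          show c (ψ s₀) ^ p = 1
          rw [← map_pow, hs₀p, map_one]
        have h3 := hMp _ h1 (by rw [← pow_mul, mul_comm, pow_mul, h2, one_pow])
        refine hs₀ (hcinj ?_)
        rw [map_one]
        show φ s₀ = 1
        refine orderOf_eq_one_iff.1 (Nat.eq_one_of_dvd_coprimes ((Nat.coprime_primes hp Fact.out).2 hpr)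
          (orderOf_dvd_of_pow_eq_one h2) (orderOf_dvd_of_pow_eq_one h3))
    -- elements commuting with the image
    have hcent : ∀ b : ↥C, (∀ s, b * φ s = φ s * b) → ∃ i : ℤ, b.1 = x ^ i := by
      intro b hb
      obtain ⟨i, hi⟩ := mem_zpowers_of_fix r hm σ (β := a⁻¹ * b.1 * a) (fun s => by
        rw [MulAut.mul_apply, MulAut.mul_apply, MulAut.inv_def, MulEquiv.symm_apply_eq]
        refine conj_inj r (by omega) ?_
        rw [← hcomm, mul_inv_eq_iff_eq_mul]
        exact congrArg Subtype.val (hb s))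
      exact ⟨i, by rw [hx, conj_zpow, ← hi]; group⟩
    have hW : ∀ k, c k ∈ M → k = 1 := by
      intro k hk
      have hb : ∀ s, c k * φ s = φ s * c k := by
        intro s
        obtain ⟨t, ht⟩ := QuotientGroup.mk_surjective (a⁻¹ k.1)
        have hft : (QuotientGroup.mk (frob σ t) : P) = QuotientGroup.mk t := by
          rw [← fld_mk, ht]
          have h2 : x k.1 = k.1 := k.2
          rw [hx, MulAut.mul_apply, MulAut.mul_apply] at h2
          exact a.injective (h2.trans (by simp))
        obtain ⟨s', hs'⟩ := exists_jF (σ := σ) (t := t * jF σ s * t⁻¹) (by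
          have hz : t⁻¹ * frob σ t ∈ Subgroup.center Sp := QuotientGroup.eq.1 hft.symm
          rw [map_mul, map_mul, map_inv, frob_jF]
          have := Subgroup.mem_center_iff.1 hz (jF σ s)
          calc frob σ t * jF σ s * (frob σ t)⁻¹ = t * (t⁻¹ * frob σ t * jF σ s) * (frob σ t)⁻¹ := by group
            _ = t * (jF σ s * (t⁻¹ * frob σ t)) * (frob σ t)⁻¹ := by rw [this]
            _ = _ := by group)
        have he : c k * φ s * (c k)⁻¹ = φ s' := by
          show c k * c (ψ s) * (c k)⁻¹ = c (ψ s')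
          rw [← map_inv, ← map_mul, ← map_mul]
          refine congrArg c (Subtype.ext ?_)
          show k.1 * (ψ s).1 * k.1⁻¹ = (ψ s').1
          rw [hψ, hψ, hs', QuotientGroup.mk_mul, QuotientGroup.mk_mul, QuotientGroup.mk_inv, map_mul, map_mul, map_inv,
            ht, MulAut.inv_def, MulEquiv.apply_symm_apply]
        have hmem : φ (s' * s⁻¹) ∈ M := by
          rw [map_mul, map_inv, ← he, mul_assoc (c k * φ s), mul_assoc (c k)]
          exact mul_mem hk (by
            rw [← mul_assoc]
            exact Subgroup.Normal.conj_mem inferInstance _ (inv_mem hk) _)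
        have := htriv _ hmem
        rw [map_mul, map_inv, mul_inv_eq_one, ← he, mul_inv_eq_iff_eq_mul] at this
        exact this
      obtain ⟨i, hi⟩ := hcent (c k) hb
      refine hcinj ((map_one c).symm ▸ hMp _ hk (Subtype.ext ?_))
      show (c k).1 ^ p = 1
      rw [hi, ← zpow_natCast, ← _root_.zpow_mul, mul_comm, _root_.zpow_mul, zpow_natCast, ← hord, pow_orderOf_eq_one, _root_.one_zpow]
    refine hne ((Subgroup.eq_bot_iff_forall _).2 fun b hb => ?_)
    obtain ⟨i, hi⟩ := hcent b fun s => by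
      obtain ⟨k', hk'⟩ := hcn b (ψ s)
      have : c (k' * (ψ s)⁻¹) ∈ M := by
        rw [map_mul, map_inv, ← hk', mul_assoc b, mul_assoc b]
        exact mul_mem hb (Subgroup.Normal.conj_mem inferInstance _ (inv_mem hb) _)
      have h1 := hW _ this
      rw [mul_inv_eq_one] at h1
      rw [← mul_inv_eq_iff_eq_mul]
      exact hk'.trans (congrArg c h1)
    refine hMp b hb (Subtype.ext ?_)
    show b.1 ^ p = 1
    rw [hi, ← zpow_natCast, ← _root_.zpow_mul, mul_comm, _root_.zpow_mul, zpow_natCast, ← hord, pow_orderOf_eq_one, _root_.one_zpow]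
  · intro hcop hbot
    have hn : c.range.Normal := ⟨fun _ ⟨k, hk⟩ b => by
      obtain ⟨k', hk'⟩ := hcn b k
      exact ⟨k', by rw [← hk, hk']⟩⟩
    have hle : c.range ≤ Cfsg.pPrimeCore p ↥C := Core.le_pPrimeCore' hn (by
      rw [← Nat.card_congr (MonoidHom.ofInjective hcinj).toEquiv]
      exact hcop.symm)
    rw [hbot, le_bot_iff, MonoidHom.range_eq_bot_iff] at hle
    obtain ⟨s, hs⟩ := jF_tS σ he₀ (map_one σ)
    have h1 : ψ s = 1 := hcinj (by rw [hle]; simp)
    have h2 : (QuotientGroup.mk (tS e₀ (1 : F)) : P) = 1 := a.injective (by rw [← hs, ← hψ, h1, map_one]; rfl)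
    exact tS_ne_one (Pi.single_ne_zero_iff.2 one_ne_zero) one_ne_zero
      (mk_inj_of_pow r (tS_pow_char _ _) (one_pow r) (by rw [h2, QuotientGroup.mk_one]))

end Cfsg.Lib.Linear.AutPSp
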