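import Cfsg.Agent.Lib.Linear.AutPSp.Graph
import Cfsg.Agent.Lib.Linear.AutPSp.FieldCases

/-!
# Automorphisms of `PSp_4(2^f)`

An automorphism sends a transvection to a transvection or to the image of one under the exceptional automorphism: a
third kind of involution with a class of odd size has a centraliser which is a `2`-group.
-/

set_option autoImplicit false

namespace Cfsg.Lib.Linear.AutPSp

open Matrix Module Cfsg.Lib.Linear.Symp

set_option quotPrecheck false

variable {F : Type*} [Field F] [Fintype F] [CharP F 2]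

local notation "V" => (Fin 2 ⊕ Fin 2 → F)
local notation "Sp" => ↥(Matrix.symplecticGroup (Fin 2) F)
local notation "P" => Cfsg.PSp 2 F
local notation "GS" => ↥(Cfsg.GSp 2 F)
local notation "M4" => Matrix (Fin 4) (Fin 4) F

omit [Fintype F] in
theorem eq_one_of_mem_center {z : Sp} (hz : z ∈ Subgroup.center Sp) : z = 1 := by
  obtain ⟨a, ha, hv⟩ := center_smul hz
  have : a = 1 := by
    rcases mul_self_eq_one_iff.1 ha with h | h
    · exact h
    · rw [h, CharTwo.neg_eq]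
  exact sp_ext fun x => by rw [hv, this, one_smul, Submonoid.coe_one, Matrix.one_mulVec]

omit [Fintype F] in
theorem mk_inj4 {x y : Sp} (h : (QuotientGroup.mk x : P) = QuotientGroup.mk y) : x = y :=
  inv_mul_eq_one.1 (eq_one_of_mem_center (QuotientGroup.eq.1 h))

/-- The first standard basis vector. -/
def e0 : V := Pi.single (Sum.inl 0) 1

omit [Fintype F] [CharP F 2] in
theorem e0_ne : (e0 : V) ≠ 0 := Pi.single_ne_zero_iff.2 one_ne_zero

omit [Fintype F] [CharP F 2] in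
theorem e0_idx : (e0 : V) ∘ idx4.symm = ![1, 0, 0, 0] := by
  funext i
  fin_cases i <;> simp [e0, idx4, Pi.single_apply]

omit [Fintype F] in
theorem toM4_t0 (c : F) : toM4 (tS e0 c : Sp) = !![1, 0, 0, c; 0, 1, 0, 0; 0, 0, 1, 0; 0, 0, 0, 1] := by
  rw [toM4_tS, e0_idx]
  ext i j
  fin_cases i <;> fin_cases j <;> simp [tv4, Matrix.one_apply]

omit [Fintype F] in
theorem toM4_star_t0 : toM4 (starHom (tS e0 1) : Sp) = !![1, 0, 1, 0; 0, 1, 0, 1; 0, 0, 1, 0; 0, 0, 0, 1] := by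
  rw [toM4_starHom, toM4_t0]
  ext i j
  fin_cases i <;> fin_cases j <;> simp [Cfsg.Lie.star4, Cfsg.Lie.pairOf, CharTwo.neg_eq]

omit [Fintype F] in
theorem toM4_mulVec (s : Sp) (v : V) : toM4 s *ᵥ (v ∘ idx4.symm) = (s.1 *ᵥ v) ∘ idx4.symm := by
  rw [toM4]
  exact (Matrix.submatrix_mulVec_equiv s.1 (v ∘ idx4.symm) idx4.symm idx4.symm).trans (by
    rw [Equiv.symm_symm, Function.comp_assoc, Equiv.symm_comp_self, Function.comp_id])

/-- The middle block `A`. -/
def mid4 (a b c d : F) : M4 := !![1, 0, 0, 0; 0, a, b, 0; 0, c, d, 0; 0, 0, 0, 1]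

omit [Fintype F] in
theorem mid4_adj {a b c d : F} (h : a * d + b * c = 1) : adj4 (mid4 a b c d) * mid4 a b c d = 1 := by
  have h2 : (2 : F) = 0 := CharTwo.two_eq_zero
  ext i j
  fin_cases i <;> fin_cases j <;> simp [adj4, mid4, Matrix.mul_apply, Fin.sum_univ_four] <;>
    first
    | linear_combination h
    | linear_combination (a * c) * h2
    | linear_combination (b * d) * h2

/-- The unipotent matrix `U(a, b, x)`. -/
def uni4 (a b x : F) : M4 := !![1, a, b, x; 0, 1, 0, b; 0, 0, 1, a; 0, 0, 0, 1]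

omit [Fintype F] in
/-- An element commuting with `radQ e0` is `U(a, b, x)`. -/
theorem exists_uni4 {y : Sp} (hy : ∀ g ∈ radQ (e0 : V), Commute g y) : ∃ a b x, toM4 y = uni4 a b x := by
  obtain ⟨ε, hε, hv, hperp⟩ := centralizer_radQ e0_ne hy
  have hε1 : ε = 1 := by
    rcases mul_self_eq_one_iff.1 hε with h | h
    · exact h
    · rw [h, CharTwo.neg_eq]
  subst hε1
  rw [one_smul] at hv
  have hp : ∀ k : Fin 4, k ≠ 3 → spB 2 F (Pi.single (idx4.symm k) 1) e0 = 0 := by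
    intro k hk
    rw [spB_apply, Cfsg.sympForm, J_mulVec]
    fin_cases k <;> simp [idx4, e0, dotProduct, Fintype.sum_sum_type, Fin.sum_univ_two, Pi.single_apply] at hk ⊢
  have hcol : ∀ k : Fin 4, k ≠ 3 → ∃ a : F, ∀ i, toM4 y i k = (1 : M4) i k + a * (![1, 0, 0, 0] : Fin 4 → F) i := by
    intro k hk
    obtain ⟨a, ha, -⟩ := hperp _ (hp k hk)
    rw [one_smul, Matrix.mulVec_single_one] at ha
    refine ⟨a, fun i => ?_⟩
    have := congrFun ha (idx4.symm i)
    rw [Matrix.col_apply] at this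
    show y.1 (idx4.symm i) (idx4.symm k) = _
    rw [this]
    fin_cases k <;> fin_cases i <;> simp [idx4, e0, Pi.single_apply, Matrix.one_apply]
  have hcol0 : ∀ i, toM4 y i 0 = (1 : M4) i 0 := by
    intro i
    have := congrFun hv (idx4.symm i)
    rw [e0, Matrix.mulVec_single_one, Matrix.col_apply] at this
    show y.1 (idx4.symm i) (idx4.symm 0) = _
    rw [show idx4.symm (0 : Fin 4) = Sum.inl 0 from rfl, this]
    fin_cases i <;> simp [idx4, Pi.single_apply, Matrix.one_apply]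
  obtain ⟨a, h1⟩ := hcol 1 (by decide)
  obtain ⟨b, h2⟩ := hcol 2 (by decide)
  have hadj := toM4_adj y
  refine ⟨a, b, toM4 y 0 3, ?_⟩
  have q0 := congrFun (congrFun hadj 0) 1
  have q1 := congrFun (congrFun hadj 0) 2
  have q2 := congrFun (congrFun hadj 3) 3
  simp [adj4, Matrix.mul_apply, Fin.sum_univ_four, h1, h2, hcol0, Matrix.one_apply] at q0 q1 q2
  rw [q2, one_mul, CharTwo.add_eq_zero] at q0 q1
  ext i j
  fin_cases i <;> fin_cases j <;>
    first
    | (simp [uni4, h1, h2, hcol0, q0, q1, q2, Matrix.one_apply]; done)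
    | (simp [uni4, Matrix.one_apply]; linear_combination (norm := (ring_nf; simp [CharTwo.two_eq_zero])) q0)
    | (simp [uni4, Matrix.one_apply]; linear_combination (norm := (ring_nf; simp [CharTwo.two_eq_zero])) q1)
    | (simp [uni4, Matrix.one_apply]; linear_combination q2)

omit [Fintype F] in
/-- The centraliser of `U(0, 1, x)`, `x ≠ 0`, is a `2`-group. -/
theorem pow_four_of_commute {g : M4} {x : F} (hx : x ≠ 0) (hg : adj4 g * g = 1)
    (hc : g * uni4 0 1 x = uni4 0 1 x * g) : g ^ 4 = 1 := by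
  have h2 : (2 : F) = 0 := CharTwo.two_eq_zero
  have e : ∀ i j, (g * uni4 0 1 x) i j = (uni4 0 1 x * g) i j := fun i j => by rw [hc]
  have c30 := e 1 0
  have c31 := e 1 1
  have c20 := e 0 0
  have c21 := e 0 1
  have c32 := e 1 2
  have c33 := e 1 3
  have c22 := e 0 2
  have c23 := e 0 3
  simp [uni4, Matrix.mul_apply, Fin.sum_univ_four] at c30 c31 c20 c21 c32 c33 c22 c23
  rw [c30] at c20
  rw [c31] at c21
  simp at c20 c21
  have a10 := congrFun (congrFun hg 1) 0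
  have a00 := congrFun (congrFun hg 0) 0
  have a01 := congrFun (congrFun hg 0) 1
  simp [adj4, Matrix.mul_apply, Fin.sum_univ_four, c30, c31, c20, c21] at a10 a00 a01
  have s0 : g 1 0 = 0 := by
    have : x * (g 1 0) ^ 2 = 0 := by
      linear_combination (norm := (ring_nf; simp [h2])) a10 - g 0 0 * c32 + g 1 0 * c22 + (g 1 0) * x * c32
    simpa [hx] using this
  have s1 : g 3 2 = 0 := by linear_combination s0 - c32
  simp [s0, s1] at c22 c33 a00 a01
  have d0 : g 0 0 = g 1 1 := by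
    have : x * g 1 1 * (g 0 0 + g 1 1) = 0 := by
      linear_combination (norm := (ring_nf; simp [h2])) a01 + g 1 1 * (c23 - x * c33) + g 0 1 * c33
    have hne : g 1 1 ≠ 0 := fun h => by
      rw [show g 3 3 = 0 by linear_combination h - c33] at a00
      simp at a00
    exact CharTwo.add_eq_zero.1 (by simpa [hx, hne] using this)
  have one : g 1 1 = 1 := by
    have : g 1 1 * g 1 1 = 1 := by linear_combination a00 + g 0 0 * c33 - g 1 1 * d0
    rcases mul_self_eq_one_iff.1 this with h | h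
    · exact h
    · rw [h, CharTwo.neg_eq]
  have hn : (g - 1) ^ 4 = 0 := by
    rw [pow_succ, pow_succ, pow_succ, pow_one]
    ext i j
    fin_cases i <;> fin_cases j <;>
      simp [Matrix.mul_apply, Fin.sum_univ_four, Matrix.sub_apply, Matrix.one_apply, c30, c31, c20, c21, s0, s1,
        d0, one, show g 3 3 = 1 by linear_combination one - c33, show g 2 2 = 1 by linear_combination d0 + one - c22]
  have he := sub_pow_char_pow_of_commute (p := 2) (n := 2) (Commute.one_right g)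
  simp only [show 2 ^ 2 = 4 from rfl, one_pow] at he
  rw [hn, eq_comm, sub_eq_zero] at he
  exact he

theorem commute_conj {x g : Sp} (h : Commute g x) (k : Sp) : Commute (k * g * k⁻¹) (k * x * k⁻¹) := by
  show k * g * k⁻¹ * (k * x * k⁻¹) = k * x * k⁻¹ * (k * g * k⁻¹)
  calc k * g * k⁻¹ * (k * x * k⁻¹) = k * (g * x) * k⁻¹ := by group
    _ = k * (x * g) * k⁻¹ := by rw [h.eq]
    _ = _ := by group

/-- An element of order three commuting with a transvection. -/
theorem exists_three : ∃ g : Sp, g ^ 3 = 1 ∧ g ≠ 1 ∧ Commute g (tS e0 1) := by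
  have h2 : (2 : F) = 0 := CharTwo.two_eq_zero
  obtain ⟨g, hg⟩ := exists_toM4 (mid4_adj (a := (0 : F)) (b := 1) (c := 1) (d := 1) (by ring))
  refine ⟨g, toM4_injective ?_, fun h => ?_, toM4_injective ?_⟩
  · rw [pow_three, toM4_mul, toM4_mul, hg, toM4_one]
    ext i j
    fin_cases i <;> fin_cases j <;>
      simp [mid4, Matrix.mul_apply, Fin.sum_univ_four] <;> (try linear_combination h2)
  · have := congrFun (congrFun hg 1) 1
    rw [h, toM4_one] at this
    simp [mid4] at this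
  · rw [toM4_mul, toM4_mul, hg, toM4_t0]
    ext i j
    fin_cases i <;> fin_cases j <;> simp [mid4, Matrix.mul_apply, Fin.sum_univ_four]

/-- The image of a transvection is a transvection or an image of one under the exceptional automorphism. -/
theorem image_cases (β : MulAut P) :
    (∃ w : V, w ≠ 0 ∧ β (QuotientGroup.mk (tS e0 1)) = QuotientGroup.mk (tS w 1)) ∨
      ∃ k : Sp, β (QuotientGroup.mk (tS e0 1)) = QuotientGroup.mk (k * starHom (tS e0 1) * k⁻¹) := by
  classical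
  have ht : (tS (e0 : V) (1 : F)) ^ 2 = 1 := tS_pow_char e0 1
  obtain ⟨x, hx, hxt⟩ := exists_lift_pow (m := 2) (F := F) 2 (a := β (QuotientGroup.mk (tS e0 1)))
    (by rw [← map_pow, ← QuotientGroup.mk_pow, ht, QuotientGroup.mk_one, map_one])
  rw [← hxt]
  have hnd : ¬ 2 ∣ Nat.card (cls x) := by
    rw [← card_cls_mk 2 hx, hxt, card_cls_aut 2, card_cls_mk 2 ht]
    exact not_dvd_card_cls_tS 2 (by norm_num) e0_ne
  have hcls : MulAction.orbit (ConjAct Sp) x = cls x := by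
    ext y
    constructor
    · rintro ⟨g, rfl⟩
      exact ⟨ConjAct.ofConjAct g, (ConjAct.smul_def g x).symm⟩
    · rintro ⟨g, rfl⟩
      exact ⟨ConjAct.toConjAct g, ConjAct.smul_def _ x⟩
  obtain ⟨⟨y, hy⟩, hfix⟩ := ((isPGroup_radQ 2 (e0 : V)).map
    (ConjAct.toConjAct (G := Sp)).toMonoidHom).nonempty_fixed_point_of_prime_not_dvd_card
      (MulAction.orbit (ConjAct Sp) x) (by rw [hcls]; exact hnd)
  rw [hcls] at hy
  obtain ⟨g, rfl⟩ := hy
  set y := g * x * g⁻¹ with hy'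
  have hxy : x = g⁻¹ * y * g := by rw [hy']; group
  have hcomm : ∀ h ∈ radQ (e0 : V), Commute h y := fun h hh => by
    have h1 := congrArg Subtype.val (hfix ⟨ConjAct.toConjAct h, h, hh, rfl⟩)
    exact mul_inv_eq_iff_eq_mul.1 ((ConjAct.smul_def (ConjAct.toConjAct h) y).symm.trans h1)
  obtain ⟨a, b, c, habc⟩ := exists_uni4 hcomm
  by_cases hab : a = 0 ∧ b = 0
  · left
    obtain ⟨rfl, rfl⟩ := hab
    have hyt : y = tS e0 c := toM4_injective (by rw [habc, toM4_t0]; rfl)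
    obtain ⟨r, hr⟩ := (PerfectRing.bijective_frobenius (R := F) (p := 2)).surjective c
    simp only [frobenius_def] at hr
    have hr0 : r ≠ 0 := fun h => by
      have : y = 1 := by rw [hyt, ← hr, h, zero_pow two_ne_zero, tS_zero]
      rw [hxy, this, mul_one, inv_mul_cancel, QuotientGroup.mk_one] at hxt
      exact tS_ne_one e0_ne one_ne_zero (mk_inj4 (β.injective (by rw [← hxt, QuotientGroup.mk_one, map_one])))
    refine ⟨r • ((g⁻¹).1 *ᵥ e0), smul_ne_zero hr0 (mulVec_ne_zero _ e0_ne), ?_⟩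
    rw [tS_smul, mul_one, hr, ← conj_tS, inv_inv, ← hyt, hxy]
  right
  -- conjugate to `U(0, 1, x)`
  obtain ⟨k, hk⟩ : ∃ k : Sp, ∃ c', toM4 (k * y * k⁻¹) = uni4 0 1 c' := by
    obtain ⟨A, B, C, D, hdet, hA, hB⟩ : ∃ A B C D : F, A * D + B * C = 1 ∧ a = C ∧ b = D := by
      by_cases hb : b = 0
      · have ha : a ≠ 0 := fun h => hab ⟨h, hb⟩
        exact ⟨0, a⁻¹, a, b, by rw [inv_mul_cancel₀ ha]; ring, rfl, rfl⟩
      · exact ⟨b⁻¹, 0, a, b, by rw [inv_mul_cancel₀ hb]; ring, rfl, rfl⟩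
    obtain ⟨k, hk⟩ := exists_toM4 (mid4_adj hdet)
    refine ⟨k, c, ?_⟩
    have hmul : mid4 A B C D * uni4 a b c = uni4 0 1 c * mid4 A B C D := by
      ext i j
      fin_cases i <;> fin_cases j <;> simp [mid4, uni4, Matrix.mul_apply, Fin.sum_univ_four, hA, hB] <;>
        first
        | linear_combination hdet
        | linear_combination (-hdet)
        | linear_combination (C * D) * (CharTwo.two_eq_zero (R := F))
    calc toM4 (k * y * k⁻¹) = toM4 (k * y) * toM4 k⁻¹ := toM4_mul _ _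
      _ = uni4 0 1 c * (toM4 k * toM4 k⁻¹) := by rw [toM4_mul, hk, habc, hmul, Matrix.mul_assoc]
      _ = _ := by rw [← toM4_mul, mul_inv_cancel, toM4_one, Matrix.mul_one]
  obtain ⟨c', hk⟩ := hk
  rcases eq_or_ne c' 0 with rfl | hc'
  · refine ⟨g⁻¹ * k⁻¹, congrArg _ ?_⟩
    rw [hxy, ← show k * y * k⁻¹ = starHom (tS e0 1) from toM4_injective (by rw [hk, toM4_star_t0]; rfl)]
    group
  exfalso
  obtain ⟨t, ht3, ht1, htc⟩ := exists_three (F := F)
  obtain ⟨t', ht'⟩ := QuotientGroup.mk_surjective (β (QuotientGroup.mk t))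
  have hx' : Commute t' x := by
    refine mk_inj4 ?_
    rw [QuotientGroup.mk_mul, QuotientGroup.mk_mul, ht', hxt, ← map_mul, ← map_mul, ← QuotientGroup.mk_mul,
      ← QuotientGroup.mk_mul, htc.eq]
  have h3 : t' ^ 3 = 1 := mk_inj4 (by rw [QuotientGroup.mk_pow, ht', ← map_pow, ← QuotientGroup.mk_pow, ht3,
    QuotientGroup.mk_one, map_one])
  have hu := commute_conj (commute_conj hx' g) k
  rw [← hy'] at hu
  set u := k * (g * t' * g⁻¹) * k⁻¹ with hu'
  have h4 : u ^ 4 = 1 := by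
    refine toM4_injective ?_
    have := pow_four_of_commute hc' (toM4_adj u) (by rw [← hk, ← toM4_mul, ← toM4_mul, hu.eq])
    rw [toM4_one, ← this, pow_succ, pow_succ, pow_succ, pow_one, toM4_mul, toM4_mul, toM4_mul, pow_succ, pow_succ,
      pow_succ, pow_one]
  have h4' : t' ^ 4 = 1 := by
    rw [hu', conj_pow, conj_eq_one_iff, conj_pow, conj_eq_one_iff] at h4
    exact h4
  rw [pow_succ, h3, one_mul] at h4'
  exact ht1 (mk_inj4 (β.injective (by rw [← ht', h4', QuotientGroup.mk_one, map_one])))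

/-- `γ` maps transvections to transvections. -/
def PresT (γ : MulAut P) : Prop :=
  ∀ v : V, v ≠ 0 → ∃ (w : V) (c : F), w ≠ 0 ∧ c ≠ 0 ∧ γ (QuotientGroup.mk (tS v 1)) = QuotientGroup.mk (tS w c)

omit [Fintype F] [CharP F 2] in
theorem exists_mulVec_eq {v w : V} (hv : v ≠ 0) (hw : w ≠ 0) : ∃ s : Sp, s.1 *ᵥ v = w := by
  obtain ⟨s, hs, hsv⟩ := exists_iso_vec (spB_nondegenerate 2 F) (spB_isAlt 2 F) hv hw
  obtain ⟨g', hg'⟩ := (spEquiv (m := 2) (F := F)).surjective ⟨s, T_le_iso (spB_isAlt 2 F) ⊥ hs⟩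
  exact ⟨g', by rw [← spEquiv_apply, hg']; exact hsv⟩

omit [Fintype F] [CharP F 2] in
theorem presT_of_image {γ : MulAut P} {w : V} (hw : w ≠ 0)
    (h : γ (QuotientGroup.mk (tS e0 1)) = QuotientGroup.mk (tS w 1)) : PresT γ := by
  intro v hv
  obtain ⟨s, rfl⟩ := exists_mulVec_eq e0_ne hv
  obtain ⟨s', hs'⟩ := QuotientGroup.mk_surjective (γ (QuotientGroup.mk s))
  refine ⟨s'.1 *ᵥ w, 1, mulVec_ne_zero _ hw, one_ne_zero, ?_⟩
  rw [← conj_tS, ← conj_tS, QuotientGroup.mk_mul, QuotientGroup.mk_mul, QuotientGroup.mk_inv, map_mul, map_mul,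
    map_inv, h, ← hs', ← QuotientGroup.mk_inv, ← QuotientGroup.mk_mul, ← QuotientGroup.mk_mul]

omit [Fintype F] [CharP F 2] in
theorem presT_inv_of_image {γ : MulAut P} {w : V} (hw : w ≠ 0)
    (h : γ (QuotientGroup.mk (tS e0 1)) = QuotientGroup.mk (tS w 1)) : PresT γ⁻¹ := by
  obtain ⟨s, rfl⟩ := exists_mulVec_eq e0_ne hw
  obtain ⟨s', hs'⟩ := QuotientGroup.mk_surjective (γ⁻¹ (QuotientGroup.mk s))
  refine presT_of_image (γ := γ⁻¹) (w := (s'⁻¹).1 *ᵥ e0) (mulVec_ne_zero _ e0_ne) ?_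
  have hs : γ (QuotientGroup.mk s') = QuotientGroup.mk s := by
    rw [hs', MulAut.inv_def, MulEquiv.apply_symm_apply]
  rw [MulAut.inv_def, MulEquiv.symm_apply_eq, ← conj_tS, inv_inv, QuotientGroup.mk_mul, QuotientGroup.mk_mul,
    QuotientGroup.mk_inv, map_mul, map_mul, map_inv, h, hs, ← conj_tS, QuotientGroup.mk_mul, QuotientGroup.mk_mul,
    QuotientGroup.mk_inv]
  group

theorem exists_decomp_of_presT {β : MulAut P} (hf : PresT β) (hb : PresT β⁻¹) :
    ∃ (g : GS) (σ : F ≃+* F), β = innd g * fld σ := by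
  classical
  choose φ₀ c₀ hφ hc₀ hφ₀ using fun v : {v : V // v ≠ 0} => hf v.1 v.2
  let φ : V → V := fun v => if h : v ≠ 0 then φ₀ ⟨v, h⟩ else 0
  have himg : ∀ v, v ≠ 0 → Img β v (φ v) := fun v hv =>
    ⟨1, c₀ ⟨v, hv⟩, one_ne_zero, hc₀ _, by simp only [φ, dif_pos hv]; exact hφ₀ ⟨v, hv⟩⟩
  have hφne : ∀ v, v ≠ 0 → φ v ≠ 0 := fun v hv => by simp only [φ, dif_pos hv]; exact hφ _
  have hpre : ∀ z : V, z ≠ 0 → ∃ u, u ≠ 0 ∧ Img β u z := fun z hz => by
    obtain ⟨u, c, hu, hc, e⟩ := hb z hz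
    exact ⟨u, hu, c, 1, hc, one_ne_zero, by rw [← e, MulAut.inv_def, MulEquiv.apply_symm_apply]⟩
  have horth : ∀ x y, x ≠ 0 → y ≠ 0 → (spB 2 F x y = 0 ↔ spB 2 F (φ x) (φ y) = 0) := fun x y hx hy =>
    Img.orth 2 (himg x hx) (himg y hy)
  have hcard : 3 ≤ Fintype.card (Fin 2 ⊕ Fin 2) := by simp
  obtain ⟨g, σ, hgσ⟩ := Collineation.exists_semilinear hcard φ hφne
    (fun x y hx hy ⟨c, hc⟩ => perp_trans hx fun u hu => by
      rcases eq_or_ne u 0 with rfl | hu0
      · simp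
      rw [horth u y hu0 hy, hc, map_smul, (horth u x hu0 hx).1 hu, smul_zero])
    (fun x c hx hc => perp_trans (hφne x hx) fun z hz => by
      rcases eq_or_ne z 0 with rfl | hz0
      · simp
      obtain ⟨u, hu0, hu⟩ := hpre z hz0
      refine (Img.orth 2 hu (himg _ (smul_ne_zero hc hx))).1 ?_
      rw [map_smul, (Img.orth 2 hu (himg x hx)).2 hz, smul_zero])
    (fun w hw => by
      obtain ⟨u, hu0, hu⟩ := hpre w hw
      refine ⟨u, hu0, perp_trans hw fun z hz => ?_⟩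
      rcases eq_or_ne z 0 with rfl | hz0
      · simp
      obtain ⟨t, ht0, ht⟩ := hpre z hz0
      exact (Img.orth 2 ht (himg u hu0)).1 ((Img.orth 2 ht hu).2 hz))
    (fun x y r s hx hy hxy => mem_span_pair_of_perp fun z hzx hzy => by
      rcases eq_or_ne z 0 with rfl | hz0
      · simp
      obtain ⟨u, hu0, hu⟩ := hpre z hz0
      refine (Img.orth 2 hu (himg _ hxy)).1 ?_
      simp [(Img.orth 2 hu (himg x hx)).2 hzx, (Img.orth 2 hu (himg y hy)).2 hzy])
  have hg : g ∈ Cfsg.GSp 2 F := by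
    refine mem_GSp_of_orth (by norm_num) fun a b => ?_
    obtain ⟨x, rfl⟩ : ∃ x, σ ∘ x = a := ⟨σ.symm ∘ a, funext fun i => σ.apply_symm_apply _⟩
    obtain ⟨y, rfl⟩ : ∃ y, σ ∘ y = b := ⟨σ.symm ∘ b, funext fun i => σ.apply_symm_apply _⟩
    rw [form_map, map_eq_zero_iff σ σ.injective]
    rcases eq_or_ne x 0 with rfl | hx
    · simp
    rcases eq_or_ne y 0 with rfl | hy
    · simp
    obtain ⟨r, hr, hr'⟩ := hgσ x hx
    obtain ⟨s, hs, hs'⟩ := hgσ y hy
    rw [horth x y hx hy, hr', hs']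
    simp [hr, hs]
  obtain ⟨μ, hμ⟩ := mem_GSp_iff.1 hg
  refine ⟨⟨g, hg⟩, σ, ?_⟩
  have h1 : (innd ⟨g, hg⟩ * fld σ : MulAut P)⁻¹ * β = 1 := by
    refine eq_one_of_fixes_points 2 _ fun v hv => ?_
    obtain ⟨k, hk, hk'⟩ := hgσ v hv
    refine ⟨σ.symm (k ^ 2 * c₀ ⟨v, hv⟩ * μ), ?_, ?_⟩
    · simp [hk, hc₀]
    · rw [MulAut.mul_apply, MulAut.inv_def, MulEquiv.symm_apply_eq, hφ₀ ⟨v, hv⟩, MulAut.mul_apply, fld_mk, innd_mk,
        cnj_frob_tS ⟨g, hg⟩ σ hμ, RingEquiv.apply_symm_apply,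
        show φ₀ ⟨v, hv⟩ = φ v by simp only [φ, dif_pos hv], hk', tS_smul, mul_assoc (k ^ 2 * c₀ _), Units.mul_inv, mul_one]
  exact (inv_mul_eq_one.1 h1).symm

theorem decomp_four (β : MulAut P) :
    ∃ (g : GS) (σ : F ≃+* F), β = innd g * fld σ ∨ β = graphP * (innd g * fld σ) := by
  rcases image_cases β with ⟨w, hw, h⟩ | ⟨k, h⟩
  · obtain ⟨g, σ, e⟩ := exists_decomp_of_presT (presT_of_image hw h) (presT_inv_of_image hw h)
    exact ⟨g, σ, Or.inl e⟩
  · obtain ⟨k', rfl⟩ := (graphSp (F := F)).surjective k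
    have h' : (graphP⁻¹ * β : MulAut P) (QuotientGroup.mk (tS e0 1)) = QuotientGroup.mk (tS (k'.1 *ᵥ e0) 1) := by
      rw [MulAut.mul_apply, MulAut.inv_def, MulEquiv.symm_apply_eq, h, graphP_mk, ← conj_tS, map_mul, map_mul, map_inv]
      rfl
    obtain ⟨g, σ, e⟩ := exists_decomp_of_presT (presT_of_image (mulVec_ne_zero _ e0_ne) h')
      (presT_inv_of_image (mulVec_ne_zero _ e0_ne) h')
    exact ⟨g, σ, Or.inr (by rw [← e, mul_inv_cancel_left])⟩

theorem graphP_ne (g : GS) (σ : F ≃+* F) : graphP ≠ (innd g * fld σ : MulAut P) := by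
  intro h
  obtain ⟨μ, hμ⟩ := mem_GSp_iff.1 g.2
  have h1 := DFunLike.congr_fun h (QuotientGroup.mk (tS e0 1))
  rw [MulAut.mul_apply, fld_mk, innd_mk, cnj_frob_tS g σ hμ, graphP_mk] at h1
  have h2 := congrArg toM4 (mk_inj4 h1)
  rw [toM4_star_t0, toM4_tS] at h2
  have a := congrFun (congrFun h2 0) 2
  have b := congrFun (congrFun h2 0) 3
  simp [tv4, Matrix.one_apply] at a b
  generalize hW : g.1.1 *ᵥ (⇑σ ∘ e0) = W at a b
  simp_all

end Cfsg.Lib.Linear.AutPSp
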