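import Mathlib
import Cfsg.Prelude.Def_Sz
import Cfsg.Agent.Lib.Linear.AutPSp.Main

/-!
# The exceptional automorphism of `Sp_4(2^f)`

The matrix of `2 × 2` minors in `Cfsg.Lie.star4` is an automorphism of the symplectic group in
characteristic two, whose square is the Frobenius automorphism.
-/

set_option autoImplicit false

namespace Cfsg.Lib.Linear.AutPSp

open Matrix Cfsg.Lib.Linear.Symp

variable {F : Type*} [Field F]

set_option quotPrecheck false
local notation "Sp" => ↥(Matrix.symplecticGroup (Fin 2) F)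
local notation "M4" => Matrix (Fin 4) (Fin 4) F

/-- The adjoint for the antidiagonal form. -/
def adj4 (g : M4) : M4 := Matrix.of fun i j => g (3 - j) (3 - i)

/-- A `2 × 2` minor. -/
def min4 (g : M4) (k l i j : Fin 4) : F := g k i * g l j - g l i * g k j

theorem star4_eq_min4 (g : M4) (p r : Fin 4) :
    Cfsg.Lie.star4 g p r =
      min4 g (Cfsg.Lie.pairOf p).1 (Cfsg.Lie.pairOf p).2 (Cfsg.Lie.pairOf r).1 (Cfsg.Lie.pairOf r).2 := rfl

theorem adj4_adj4 (g : M4) : adj4 (adj4 g) = g := by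
  ext i j
  simp [adj4]

theorem min4_mul (g h : M4) (k l i j : Fin 4) :
    min4 (g * h) k l i j = min4 g k l 0 1 * min4 h 0 1 i j + min4 g k l 0 2 * min4 h 0 2 i j +
      min4 g k l 1 3 * min4 h 1 3 i j + min4 g k l 2 3 * min4 h 2 3 i j +
      (min4 g k l 0 3 * min4 h 0 3 i j + min4 g k l 1 2 * min4 h 1 2 i j) := by
  simp only [min4, Matrix.mul_apply, Fin.sum_univ_four]
  ring

theorem star4_mul4 [CharP F 2] {A B : M4} (hA : adj4 A * A = 1) (hB : adj4 B * B = 1) :
    Cfsg.Lie.star4 (A * B) = Cfsg.Lie.star4 A * Cfsg.Lie.star4 B := by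
  ext p r
  have e3 : ∀ i : Fin 4, i = 0 ∨ i = 1 ∨ i = 2 ∨ i = 3 := by decide
  have hrow : min4 A (Cfsg.Lie.pairOf p).1 (Cfsg.Lie.pairOf p).2 0 3 +
      min4 A (Cfsg.Lie.pairOf p).1 (Cfsg.Lie.pairOf p).2 1 2 = 0 := by
    have h1 := congrFun (congrFun (show A * adj4 A = 1 from mul_eq_one_comm.mp hA) (Cfsg.Lie.pairOf p).1) (3 - (Cfsg.Lie.pairOf p).2)
    have hne : (Cfsg.Lie.pairOf p).1 ≠ 3 - (Cfsg.Lie.pairOf p).2 :=
      (by decide : ∀ p, (Cfsg.Lie.pairOf p).1 ≠ 3 - (Cfsg.Lie.pairOf p).2) p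
    rw [Matrix.one_apply_ne hne, Matrix.mul_apply, Fin.sum_univ_four] at h1
    simp only [adj4, Matrix.of_apply, sub_sub_cancel] at h1
    rw [show (3 - 0 : Fin 4) = 3 from rfl, show (3 - 1 : Fin 4) = 2 from rfl,
      show (3 - 2 : Fin 4) = 1 from rfl, show (3 - 3 : Fin 4) = 0 from rfl] at h1
    simp only [min4, CharTwo.sub_eq_add]
    linear_combination h1
  have hcol : min4 B 0 3 (Cfsg.Lie.pairOf r).1 (Cfsg.Lie.pairOf r).2 +
      min4 B 1 2 (Cfsg.Lie.pairOf r).1 (Cfsg.Lie.pairOf r).2 = 0 := by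
    have h1 := congrFun (congrFun hB (3 - (Cfsg.Lie.pairOf r).1)) (Cfsg.Lie.pairOf r).2
    have hne : 3 - (Cfsg.Lie.pairOf r).1 ≠ (Cfsg.Lie.pairOf r).2 :=
      (by decide : ∀ r, 3 - (Cfsg.Lie.pairOf r).1 ≠ (Cfsg.Lie.pairOf r).2) r
    rw [Matrix.one_apply_ne hne, Matrix.mul_apply, Fin.sum_univ_four] at h1
    simp only [adj4, Matrix.of_apply, sub_sub_cancel] at h1
    rw [show (3 - 0 : Fin 4) = 3 from rfl, show (3 - 1 : Fin 4) = 2 from rfl,
      show (3 - 2 : Fin 4) = 1 from rfl, show (3 - 3 : Fin 4) = 0 from rfl] at h1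
    simp only [min4, CharTwo.sub_eq_add]
    linear_combination h1
  rw [star4_eq_min4, min4_mul, Matrix.mul_apply, Fin.sum_univ_four]
  simp only [star4_eq_min4]
  rw [CharTwo.add_eq_zero] at hrow hcol
  rw [hrow, hcol, CharTwo.add_self_eq_zero, add_zero]
  rfl

theorem star4_adj4 [CharP F 2] (g : M4) : Cfsg.Lie.star4 (adj4 g) = adj4 (Cfsg.Lie.star4 g) := by
  ext p r
  fin_cases p <;> fin_cases r <;>
    simp [Cfsg.Lie.star4, Cfsg.Lie.pairOf, adj4, CharTwo.sub_eq_add] <;> ring

theorem star4_one : Cfsg.Lie.star4 (1 : M4) = 1 := by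
  ext p r
  fin_cases p <;> fin_cases r <;> simp [Cfsg.Lie.star4, Cfsg.Lie.pairOf, Matrix.one_apply]

theorem adj4_star4 [CharP F 2] {A : M4} (hA : adj4 A * A = 1) :
    adj4 (Cfsg.Lie.star4 A) * Cfsg.Lie.star4 A = 1 := by
  rw [← star4_adj4, ← star4_mul4 (by rw [adj4_adj4]; exact (show A * adj4 A = 1 from mul_eq_one_comm.mp hA)) hA, hA, star4_one]

/-- The coordinates used by `star4`. -/
def idx4 : Fin 2 ⊕ Fin 2 ≃ Fin 4 where
  toFun := Sum.elim ![0, 1] ![3, 2]
  invFun := ![Sum.inl 0, Sum.inl 1, Sum.inr 1, Sum.inr 0]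
  left_inv := by decide
  right_inv := by decide

theorem adj_submatrix [CharP F 2] (s : Matrix (Fin 2 ⊕ Fin 2) (Fin 2 ⊕ Fin 2) F) :
    ((-Matrix.J (Fin 2) F) * sᵀ * Matrix.J (Fin 2) F).submatrix idx4.symm idx4.symm =
      adj4 (s.submatrix idx4.symm idx4.symm) := by
  ext i j
  fin_cases i <;> fin_cases j <;>
    simp [adj4, idx4, Matrix.J, Matrix.mul_apply, Fintype.sum_sum_type, Fin.sum_univ_two, Matrix.fromBlocks,
      Matrix.one_apply, CharTwo.neg_eq]

/-- A symplectic matrix in the coordinates of `star4`. -/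
def toM4 (s : Sp) : M4 := s.1.submatrix idx4.symm idx4.symm

theorem toM4_mul (s t : Sp) : toM4 (s * t) = toM4 s * toM4 t := by
  rw [toM4, toM4, toM4, Submonoid.coe_mul, Matrix.submatrix_mul_equiv]

theorem toM4_one : toM4 (1 : Sp) = 1 := by
  rw [toM4, Submonoid.coe_one, Matrix.submatrix_one_equiv]

theorem toM4_injective : Function.Injective (toM4 (F := F)) := fun s t e =>
  Subtype.ext (Matrix.ext fun i j => by
    have := congrFun (congrFun e (idx4 i)) (idx4 j)
    simpa [toM4] using this)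

theorem toM4_adj [CharP F 2] (s : Sp) : adj4 (toM4 s) * toM4 s = 1 := by
  rw [toM4, ← adj_submatrix, Matrix.submatrix_mul_equiv]
  have h := SymplecticGroup.mem_iff'.1 s.2
  rw [Matrix.neg_mul, Matrix.neg_mul, Matrix.neg_mul, Matrix.mul_assoc (Matrix.J (Fin 2) F) s.1ᵀ,
    Matrix.mul_assoc (Matrix.J (Fin 2) F), h, Matrix.J_squared, neg_neg, Matrix.submatrix_one_equiv]

theorem exists_toM4 [CharP F 2] {A : M4} (hA : adj4 A * A = 1) : ∃ s : Sp, toM4 s = A := by
  have hs : A.submatrix idx4 idx4 ∈ Matrix.symplecticGroup (Fin 2) F := by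
    refine SymplecticGroup.mem_iff'.2 ?_
    have h1 := adj_submatrix (A.submatrix idx4 idx4)
    rw [Matrix.submatrix_submatrix, Equiv.self_comp_symm, Matrix.submatrix_id_id] at h1
    have h2 := congrArg (fun X : M4 => X.submatrix idx4 idx4) h1
    simp only [Matrix.submatrix_submatrix, Equiv.symm_comp_self, Matrix.submatrix_id_id] at h2
    have h3 : ((-Matrix.J (Fin 2) F) * (A.submatrix idx4 idx4)ᵀ * Matrix.J (Fin 2) F) * A.submatrix idx4 idx4 = 1 := by
      rw [h2, Matrix.submatrix_mul_equiv, hA, Matrix.submatrix_one_equiv]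
    have h4 := congrArg (fun X => Matrix.J (Fin 2) F * X) h3
    simp only [← Matrix.mul_assoc, Matrix.mul_neg, Matrix.J_squared, neg_neg, Matrix.one_mul, Matrix.mul_one] at h4
    exact h4
  refine ⟨⟨_, hs⟩, ?_⟩
  show (A.submatrix idx4 idx4).submatrix idx4.symm idx4.symm = A
  rw [Matrix.submatrix_submatrix, Equiv.self_comp_symm, Matrix.submatrix_id_id]

/-- The minors as an endomorphism of the symplectic group. -/
noncomputable def starHom [CharP F 2] : Sp →* Sp where
  toFun s := (exists_toM4 (adj4_star4 (toM4_adj s))).choose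
  map_one' := toM4_injective (by
    rw [(exists_toM4 (adj4_star4 (toM4_adj (1 : Sp)))).choose_spec, toM4_one, star4_one])
  map_mul' s t := toM4_injective (by
    rw [(exists_toM4 (adj4_star4 (toM4_adj (s * t)))).choose_spec, toM4_mul, toM4_mul,
      (exists_toM4 (adj4_star4 (toM4_adj s))).choose_spec, (exists_toM4 (adj4_star4 (toM4_adj t))).choose_spec,
      star4_mul4 (toM4_adj s) (toM4_adj t)])

theorem toM4_starHom [CharP F 2] (s : Sp) : toM4 (starHom s) = Cfsg.Lie.star4 (toM4 s) :=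
  (exists_toM4 (adj4_star4 (toM4_adj s))).choose_spec

/-- A transvection in the coordinates of `star4`. -/
def tv4 (v : Fin 4 → F) (c : F) : M4 := Matrix.of fun i j => (1 : M4) i j + c * v i * v (3 - j)

theorem star4_star4_tv4 [CharP F 2] (v : Fin 4 → F) (c : F) :
    Cfsg.Lie.star4 (Cfsg.Lie.star4 (tv4 v c)) = (tv4 v c).map (fun x => x ^ 2) := by
  have h2 : (2 : F) = 0 := CharTwo.two_eq_zero
  have h3 : (3 : F) = 1 := by linear_combination h2
  have h4 : (4 : F) = 0 := by linear_combination (2 : F) * h2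
  have h6 : (6 : F) = 0 := by linear_combination (3 : F) * h2
  have h8 : (8 : F) = 0 := by linear_combination (4 : F) * h2
  ext p r
  fin_cases p <;> fin_cases r <;>
    simp [Cfsg.Lie.star4, Cfsg.Lie.pairOf, tv4, Matrix.one_apply, CharTwo.sub_eq_add] <;>
    (try ring_nf) <;> (try simp [h2, h3, h4, h6, h8]) <;> (try ring_nf) <;> (try simp [h2, h3, h4, h6, h8])

theorem toM4_tS [CharP F 2] (v : Fin 2 ⊕ Fin 2 → F) (c : F) : toM4 (tS v c) = tv4 (v ∘ idx4.symm) c := by
  ext i j
  show (tS v c).1 (idx4.symm i) (idx4.symm j) = _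
  have h := congrFun (tS_mulVec v c (Pi.single (idx4.symm j) 1)) (idx4.symm i)
  rw [Matrix.mulVec_single_one, Matrix.col_apply] at h
  rw [h, spB_apply, Cfsg.sympForm, J_mulVec]
  fin_cases i <;> fin_cases j <;>
    simp [tv4, idx4, Matrix.one_apply, dotProduct, Fintype.sum_sum_type, Fin.sum_univ_two, Pi.single_apply,
      CharTwo.neg_eq, mul_comm, mul_assoc, mul_left_comm]

/-- The squaring map as a field automorphism. -/
noncomputable def sqAut [Finite F] [CharP F 2] : F ≃+* F := frobeniusEquiv F 2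

theorem starHom_starHom [Finite F] [CharP F 2] (s : Sp) : starHom (starHom s) = frob sqAut s := by
  have key : ((starHom (F := F)).comp starHom).eqLocus (frob (sqAut (F := F))).toMonoidHom = ⊤ := by
    have htv : ∀ v c, tS v c ∈ ((starHom (F := F)).comp starHom).eqLocus (frob (sqAut (F := F))).toMonoidHom := by
      intro v c
      refine toM4_injective ?_
      show toM4 (starHom (starHom (tS v c))) = toM4 (frob sqAut (tS v c))
      rw [toM4_starHom, toM4_starHom, toM4_tS, star4_star4_tv4, ← toM4_tS]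
      ext i j
      exact (frobeniusEquiv_apply F 2 _).symm
    refine eq_top_iff.2 fun g _ => ?_
    have hg : spEquiv g ∈ Subgroup.closure
        {t : iso (spB 2 F) | ∃ v c, t = tvG (spB_isAlt 2 F) v c} := by
      rw [closure_tvG (spB_nondegenerate 2 F) (spB_isAlt 2 F)]; trivial
    have hmap : Subgroup.closure {t : iso (spB 2 F) | ∃ v c, t = tvG (spB_isAlt 2 F) v c} ≤
        (((starHom (F := F)).comp starHom).eqLocus (frob (sqAut (F := F))).toMonoidHom).map
          (spEquiv (m := 2) (F := F)).toMonoidHom := by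
      rw [Subgroup.closure_le]
      rintro _ ⟨v, c, rfl⟩
      refine ⟨tS v c, htv v c, Subtype.ext (LinearEquiv.ext fun x => ?_)⟩
      show (tS v c).1 *ᵥ x = tv (spB_isAlt 2 F) v c x
      rw [tS_mulVec]
      rfl
    obtain ⟨g', hg', e⟩ := hmap hg
    rwa [(spEquiv (m := 2) (F := F)).injective e] at hg'
  have : s ∈ ((starHom (F := F)).comp starHom).eqLocus (frob (sqAut (F := F))).toMonoidHom := by
    rw [key]; trivial
  exact this

/-- The exceptional automorphism. -/
noncomputable def graphSp [Finite F] [CharP F 2] : MulAut Sp :=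
  MulEquiv.ofBijective starHom (by
    have hb : Function.Bijective ((starHom (F := F)) ∘ starHom) := by
      rw [show (starHom (F := F)) ∘ starHom = frob sqAut from funext starHom_starHom]
      exact (frob sqAut).bijective
    exact ⟨hb.1.of_comp, hb.2.of_comp⟩)

/-- The exceptional automorphism of `PSp_4`. -/
noncomputable def graphP [Finite F] [CharP F 2] : MulAut (Cfsg.PSp 2 F) := descend graphSp

theorem graphP_mk [Finite F] [CharP F 2] (s : Sp) :
    graphP (QuotientGroup.mk s : Cfsg.PSp 2 F) = QuotientGroup.mk (starHom s) := rfl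

theorem graphP_sq [Finite F] [CharP F 2] : graphP * graphP = (fld sqAut : MulAut (Cfsg.PSp 2 F)) :=
  aut_ext fun s => by rw [MulAut.mul_apply, graphP_mk, graphP_mk, fld_mk, starHom_starHom]

end Cfsg.Lib.Linear.AutPSp
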