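import Cfsg.Agent.Lib.Linear.AutPSp.Basic

/-!
# Transvections are the elements of order `p` with a small class of order prime to `p`

A conjugate of such an element commutes with the `p`-group `radQ v`. In odd characteristic this makes it a transvection;
in characteristic two the other possibility has a class with more than `q ^ (2 m) - 1` elements when `m ≥ 3`.
-/

set_option autoImplicit false

namespace Cfsg.Lib.Linear.AutPSp

open Matrix Module Cfsg.Lib.Linear.Symp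

set_option quotPrecheck false

variable {m : ℕ} {F : Type*} [Field F]

local notation "V" => (Fin m ⊕ Fin m → F)
local notation "Sp" => ↥(Matrix.symplecticGroup (Fin m) F)

/-- The conjugates of `x`. -/
def cls {G : Type*} [Group G] (x : G) : Set G := Set.range fun g => g * x * g⁻¹

theorem eq_tS_of_fix {v z : V} (hz : spB m F z v = 1) {y : Sp}
    (h : ∀ w, spB m F w v = 0 → y.1 *ᵥ w = w) : ∃ c, y = tS v c := by
  have hv : v ≠ 0 := fun h0 => by simp [h0] at hz
  have hd : ∀ w, spB m F w v = 0 → spB m F w (y.1 *ᵥ z - z) = 0 := fun w hw => by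
    have := form_mulVec y w z
    rw [h w hw] at this
    rw [map_sub, this, sub_self]
  obtain ⟨c, hc⟩ := perp_trans hv hd
  refine ⟨c, sp_ext fun x => ?_⟩
  have hw := h (x - spB m F x v • z) (by simp [hz])
  rw [Matrix.mulVec_sub, Matrix.mulVec_smul] at hw
  rw [tS_mulVec]
  have hyz : y.1 *ᵥ z = c • v + z := by rw [← hc, sub_add_cancel]
  rw [hyz] at hw
  linear_combination (norm := module) hw

theorem exists_map_pair {a b a' b' : V} (ha : a ≠ 0) (ha' : a' ≠ 0) (hb : ∀ t : F, b ≠ t • a)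
    (hb' : ∀ t : F, b' ≠ t • a') (h : spB m F a b = 0) (h' : spB m F a' b' = 0) :
    ∃ g : Sp, g.1 *ᵥ a = a' ∧ g.1 *ᵥ b = b' := by
  have hB := spB_nondegenerate m F
  have hA := spB_isAlt m F
  obtain ⟨s, hs, hsa⟩ := exists_iso_vec hB hA ha ha'
  have h1 : s b ∉ Submodule.span F {a'} := fun hc => by
    obtain ⟨t, ht⟩ := Submodule.mem_span_singleton.1 hc
    rw [← hsa, ← map_smul] at ht
    exact hb t (s.injective ht).symm
  have h2 : b' ∉ Submodule.span F {a'} := fun hc => by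
    obtain ⟨t, ht⟩ := Submodule.mem_span_singleton.1 hc
    exact hb' t ht.symm
  obtain ⟨t, ht, htb⟩ := exists_T_map hB hA _ h1 h2 (fun x hx => by
    obtain ⟨c, rfl⟩ := Submodule.mem_span_singleton.1 hx
    rw [map_smul, LinearMap.smul_apply, LinearMap.smul_apply, h']
    conv_lhs => rw [← hsa, T_le_iso hA _ hs, h])
  obtain ⟨g, hg⟩ := (spEquiv (m := m) (F := F)).surjective
    ⟨t * s, mul_mem (T_le_iso hA _ ht) (T_le_iso hA _ hs)⟩
  refine ⟨g, ?_, ?_⟩
  · rw [← spEquiv_apply, hg]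
    show t (s a) = a'
    rw [hsa, (T_le_fixer hA _ ht).2 a' (Submodule.mem_span_singleton_self a')]
  · rw [← spEquiv_apply, hg]
    exact htb

variable [Fintype F]

theorem card_cls_tS {v : V} (hv : v ≠ 0) :
    Nat.card (cls (tS v (1 : F))) * Nat.card {a : F // a * a = 1} = Fintype.card F ^ (2 * m) - 1 := by
  classical
  have hnz : Nat.card {w : V // w ≠ 0} = Fintype.card F ^ (2 * m) - 1 := by
    rw [Nat.card_eq_fintype_card, Fintype.card_subtype_compl, Fintype.card_subtype_eq, Fintype.card_fun,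
      Fintype.card_sum, Fintype.card_fin, two_mul]
  choose g hg using fun y : cls (tS v (1 : F)) => y.2
  have hy : ∀ y : cls (tS v (1 : F)), tS ((g y).1 *ᵥ v) 1 = y.1 := fun y => (conj_tS (g y) v 1).symm.trans (hg y)
  have hne : ∀ a : F, a * a = 1 → a ≠ 0 := fun a ha h0 => by simp [h0] at ha
  rw [← hnz, ← Nat.card_prod]
  refine Nat.card_congr (Equiv.ofBijective (fun z => (⟨z.2.1 • ((g z.1).1 *ᵥ v),
    smul_ne_zero (hne _ z.2.2) (mulVec_ne_zero _ hv)⟩ : {w : V // w ≠ 0})) ⟨?_, ?_⟩)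
  · rintro ⟨y, a, ha⟩ ⟨y', a', ha'⟩ h
    have h' : a • ((g y).1 *ᵥ v) = a' • ((g y').1 *ᵥ v) := congrArg Subtype.val h
    have h1 : y = y' := by
      refine Subtype.ext ?_
      have e : ∀ (y : cls (tS v (1 : F))) (a : F), a * a = 1 → tS (a • ((g y).1 *ᵥ v)) 1 = y.1 := fun y a ha => by
        rw [tS_smul, sq, ha, one_mul, hy]
      rw [← e y a ha, h', e y' a' ha']
    subst h1
    obtain rfl := smul_left_injective F (mulVec_ne_zero _ hv) h'
    rfl
  · rintro ⟨w, hw⟩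
    obtain ⟨s, hs, hsv⟩ := exists_iso_vec (spB_nondegenerate m F) (spB_isAlt m F) hv hw
    obtain ⟨g', hg'⟩ := (spEquiv (m := m) (F := F)).surjective ⟨s, T_le_iso (spB_isAlt m F) ⊥ hs⟩
    have hgv : g'.1 *ᵥ v = w := by rw [← spEquiv_apply, hg']; exact hsv
    let y : cls (tS v (1 : F)) := ⟨_, g', rfl⟩
    obtain ⟨a, -, ha, ha2⟩ := tS_inj (mulVec_ne_zero (g y) hv) one_ne_zero
      ((hy y).trans (show (y : Sp) = tS w 1 by rw [← hgv]; exact conj_tS g' v 1))
    rw [mul_one, sq] at ha2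
    exact ⟨(y, ⟨a, ha2.symm⟩), Subtype.ext ha.symm⟩

theorem card_cls_tS_le {v : V} (hv : v ≠ 0) : Nat.card (cls (tS v (1 : F))) ≤ Fintype.card F ^ (2 * m) - 1 := by
  rw [← card_cls_tS hv]
  have : 0 < Nat.card {a : F // a * a = 1} := Nat.card_pos_iff.2 ⟨⟨⟨1, one_mul 1⟩⟩, inferInstance⟩
  exact Nat.le_mul_of_pos_right _ this

theorem not_dvd_card_cls_tS (p : ℕ) [Fact p.Prime] [CharP F p] (hm : 1 ≤ m) {v : V} (hv : v ≠ 0) :
    ¬ p ∣ Nat.card (cls (tS v (1 : F))) := by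
  intro h
  have h1 := h.mul_right (Nat.card {a : F // a * a = 1})
  rw [card_cls_tS hv] at h1
  obtain ⟨k, -, hk⟩ := FiniteField.card F p
  have h2 : p ∣ Fintype.card F ^ (2 * m) := by
    rw [hk]; exact dvd_pow (dvd_pow_self p k.pos.ne') (by omega)
  have h3 := Nat.dvd_sub h2 h1
  have : 1 ≤ Fintype.card F ^ (2 * m) := Nat.one_le_pow _ _ Fintype.card_pos
  rw [Nat.sub_sub_self this] at h3
  exact (Fact.out : p.Prime).not_dvd_one h3

theorem card_cls_ge (hm : 2 ≤ m) {y : Sp} {v z d : V} (hv : v ≠ 0) (hd : y.1 *ᵥ z - z = d)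
    (hdv : ∀ t : F, d ≠ t • v) (hvd : spB m F v d = 0) {w : V} {a : F} (ha : a ≠ 0)
    (hw : y.1 *ᵥ w - w = a • v) (hrange : ∀ x, ∃ r s : F, y.1 *ᵥ x - x = r • v + s • d) :
    (Fintype.card F ^ (2 * m) - 1) * (Fintype.card F ^ (2 * m - 1) - Fintype.card F) ≤
      Nat.card (cls y) * Fintype.card F ^ 4 := by
  classical
  let P := Σ u : {u : V // u ≠ 0}, {b : V // spB m F u.1 b = 0 ∧ ∀ t : F, b ≠ t • u.1}
  have hP : ∀ u : {u : V // u ≠ 0}, Fintype.card F ^ (2 * m - 1) - Fintype.card F ≤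
      Nat.card {b : V // spB m F u.1 b = 0 ∧ ∀ t : F, b ≠ t • u.1} := by
    intro u
    obtain ⟨z', hz'⟩ := exists_pair u.2
    have hne : spB m F u.1 ≠ 0 := fun h0 => by
      have := LinearMap.congr_fun h0 z'
      rw [form_swap, hz'] at this
      simp at this
    have hK : Nat.card (LinearMap.ker (spB m F u.1)) = Fintype.card F ^ (2 * m - 1) := by
      have h1 := Module.Dual.finrank_ker_add_one_of_ne_zero hne
      rw [finrank_space] at h1
      rw [Module.natCard_eq_pow_finrank (K := F), Nat.card_eq_fintype_card,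
        show finrank F (LinearMap.ker (spB m F u.1)) = 2 * m - 1 by omega]
    let f : LinearMap.ker (spB m F u.1) → {b : V // spB m F u.1 b = 0 ∧ ∀ t : F, b ≠ t • u.1} ⊕ F := fun b =>
      if h : ∃ t : F, b.1 = t • u.1 then Sum.inr h.choose
      else Sum.inl ⟨b.1, LinearMap.mem_ker.1 b.2, fun t ht => h ⟨t, ht⟩⟩
    have hf : Function.Injective f := by
      intro b c hbc
      refine Subtype.ext ?_
      simp only [f] at hbc
      split_ifs at hbc with h1 h2 h2
      · rw [h1.choose_spec, h2.choose_spec, Sum.inr.inj hbc]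
      · injection hbc with e
        injection e
    have := Nat.card_le_card_of_injective f hf
    rw [hK, Nat.card_sum, Nat.card_eq_fintype_card (α := F)] at this
    omega
  have hgoal : (Fintype.card F ^ (2 * m) - 1) * (Fintype.card F ^ (2 * m - 1) - Fintype.card F) ≤ Nat.card P := by
    rw [Nat.card_sigma]
    refine le_trans (le_of_eq ?_) (Finset.card_nsmul_le_sum _ _ _ fun u _ => hP u)
    rw [smul_eq_mul, Finset.card_univ, Fintype.card_subtype_compl, Fintype.card_subtype_eq, Fintype.card_fun,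
      Fintype.card_sum, Fintype.card_fin, two_mul]
  refine hgoal.trans ?_
  choose g hg1 hg2 using fun q : P => exists_map_pair hv q.1.2 hdv q.2.2.2 hvd q.2.2.1
  choose c hc using fun y' : cls y => y'.2
  let Y : P → cls y := fun q => ⟨_, g q, rfl⟩
  have hcoord : ∀ (q : P) (x : V), ∃ r s : F, (Y q).1.1 *ᵥ x - x = r • ((c (Y q)).1 *ᵥ v) + s • ((c (Y q)).1 *ᵥ d) := by
    intro q x
    obtain ⟨r, s, h⟩ := hrange ((c (Y q))⁻¹.1 *ᵥ x)
    refine ⟨r, s, ?_⟩
    conv_lhs => rw [← hc (Y q)]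
    rw [coe_mul_mulVec, coe_mul_mulVec, ← Matrix.mulVec_smul, ← Matrix.mulVec_smul, ← Matrix.mulVec_add, ← h,
      Matrix.mulVec_sub, mulVec_inv_cancel]
  have hmove : ∀ (q : P) (x : V), (Y q).1.1 *ᵥ ((g q).1 *ᵥ x) - (g q).1 *ᵥ x = (g q).1 *ᵥ (y.1 *ᵥ x - x) :=
    fun q x => by
      show (g q * y * (g q)⁻¹).1 *ᵥ ((g q).1 *ᵥ x) - _ = _
      rw [coe_mul_mulVec, coe_mul_mulVec, inv_mulVec_cancel, Matrix.mulVec_sub]
  choose r s hrs using fun q : P => hcoord q ((g q).1 *ᵥ z)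
  choose r' s' hrs' using fun q : P => hcoord q ((g q).1 *ᵥ (a⁻¹ • w))
  have hval : ∀ q : P, q.1.1 = r' q • ((c (Y q)).1 *ᵥ v) + s' q • ((c (Y q)).1 *ᵥ d) ∧
      q.2.1 = r q • ((c (Y q)).1 *ᵥ v) + s q • ((c (Y q)).1 *ᵥ d) := fun q => by
    rw [← hrs q, ← hrs' q, hmove, hmove, hd, hg2, Matrix.mulVec_smul, ← smul_sub, hw, smul_smul,
      inv_mul_cancel₀ ha, one_smul, hg1]
    exact ⟨rfl, rfl⟩
  refine le_trans (Nat.card_le_card_of_injective
    (fun q => (Y q, r q, s q, r' q, s' q)) fun q₁ q₂ h => ?_) (le_of_eq ?_)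
  · simp only [Prod.mk.injEq] at h
    obtain ⟨hY, hr, hs, hr', hs'⟩ := h
    obtain ⟨⟨u₁, hu₁⟩, ⟨b₁, hb₁⟩⟩ := q₁
    obtain ⟨⟨u₂, hu₂⟩, ⟨b₂, hb₂⟩⟩ := q₂
    have e₁ := hval ⟨⟨u₁, hu₁⟩, ⟨b₁, hb₁⟩⟩
    have e₂ := hval ⟨⟨u₂, hu₂⟩, ⟨b₂, hb₂⟩⟩
    simp only [hY, hr, hs, hr', hs'] at e₁
    obtain rfl : u₁ = u₂ := e₁.1.trans e₂.1.symm
    obtain rfl : b₁ = b₂ := e₁.2.trans e₂.2.symm
    rfl
  · simp only [Nat.card_prod, Nat.card_eq_fintype_card (α := F)]
    ring

theorem exists_eq_tS_of_small (p : ℕ) [Fact p.Prime] [CharP F p] (hm : 2 ≤ m) (hmp : m = 2 → p ≠ 2) {x : Sp}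
    (hx : x ≠ 1) (hxp : x ^ p = 1) (hle : Nat.card (cls x) ≤ Fintype.card F ^ (2 * m) - 1)
    (hnd : ¬ p ∣ Nat.card (cls x)) : ∃ (v : V) (c : F), v ≠ 0 ∧ c ≠ 0 ∧ x = tS v c := by
  classical
  let i : Fin m := ⟨0, by omega⟩
  set v : V := Pi.single (Sum.inl i) 1 with hv'
  have hv : v ≠ 0 := Pi.single_ne_zero_iff.2 one_ne_zero
  have hcls : MulAction.orbit (ConjAct Sp) x = cls x := by
    ext y
    constructor
    · rintro ⟨g, rfl⟩
      exact ⟨ConjAct.ofConjAct g, (ConjAct.smul_def g x).symm⟩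
    · rintro ⟨g, rfl⟩
      exact ⟨ConjAct.toConjAct g, ConjAct.smul_def _ x⟩
  have hQ : IsPGroup p ((radQ v).map (ConjAct.toConjAct (G := Sp)).toMonoidHom) := (isPGroup_radQ p v).map _
  obtain ⟨⟨y, hy⟩, hfix⟩ := hQ.nonempty_fixed_point_of_prime_not_dvd_card (MulAction.orbit (ConjAct Sp) x)
    (by rw [hcls]; exact hnd)
  rw [hcls] at hy
  obtain ⟨g, rfl⟩ := hy
  set y := g * x * g⁻¹ with hy'
  have hcomm : ∀ h ∈ radQ v, Commute h y := fun h hh => by
    have h1 := congrArg Subtype.val (hfix ⟨ConjAct.toConjAct h, h, hh, rfl⟩)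
    have h2 : h * y * h⁻¹ = y := (ConjAct.smul_def (ConjAct.toConjAct h) y).symm.trans h1
    exact mul_inv_eq_iff_eq_mul.1 h2
  have hy1 : y ≠ 1 := fun h => hx (conj_eq_one_iff.1 h)
  have hyp : y ^ p = 1 := by rw [hy', conj_pow, hxp, mul_one, mul_inv_cancel]
  suffices key : ∃ (u : V) (c : F), u ≠ 0 ∧ c ≠ 0 ∧ y = tS u c by
    obtain ⟨u, c, hu, hc, hyu⟩ := key
    refine ⟨(g⁻¹).1 *ᵥ u, c, mulVec_ne_zero _ hu, hc, ?_⟩
    rw [← conj_tS, ← hyu, hy', inv_inv]
    group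
  obtain ⟨z, hz⟩ := exists_pair hv
  suffices key : ∀ w, spB m F w v = 0 → y.1 *ᵥ w = w by
    obtain ⟨c, hc⟩ := eq_tS_of_fix hz key
    exact ⟨v, c, hv, fun h0 => hy1 (by rw [hc, h0, tS_zero]), hc⟩
  obtain ⟨ε, hε, hyv, hperp⟩ := centralizer_radQ hv hcomm
  have hε1 : ε = 1 := by
    have hk : ∀ k, (y ^ k).1 *ᵥ v = ε ^ k • v := by
      intro k
      induction k with
      | zero => rw [pow_zero, pow_zero, Submonoid.coe_one, Matrix.one_mulVec, one_smul]
      | succ k ih => rw [pow_succ, coe_mul_mulVec, hyv, Matrix.mulVec_smul, ih, smul_smul, ← pow_succ']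
    have h1 := hk p
    rw [hyp, Submonoid.coe_one, Matrix.one_mulVec] at h1
    have h2 : ε ^ p = 1 := (smul_left_injective F hv (h1.symm.trans (one_smul F v).symm))
    refine sub_eq_zero.1 (pow_eq_zero_iff (Fact.out : p.Prime).ne_zero |>.1 ?_)
    rw [sub_pow_char, h2, one_pow, sub_self]
  subst hε1
  rw [one_smul] at hyv
  intro w hw
  by_contra hne
  obtain ⟨a, ha, ha2⟩ := hperp w hw
  rw [one_smul] at ha
  have ha0 : a ≠ 0 := fun h0 => hne (by rw [ha, h0, zero_smul, add_zero])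
  have h2 : (2 : F) = 0 := (mul_eq_zero.1 ha2).resolve_right ha0
  have hp2 : p = 2 := by
    refine ((Nat.prime_dvd_prime_iff_eq Fact.out Nat.prime_two).1 ((CharP.cast_eq_zero_iff F p 2).1 ?_))
    exact_mod_cast h2
  have hm3 : 3 ≤ m := by
    rcases Nat.lt_or_ge m 3 with h | h
    · exact absurd hp2 (hmp (by omega))
    · exact h
  set d := y.1 *ᵥ z - z with hd
  have hvd : spB m F v d = 0 := by
    have := form_mulVec y v z
    rw [hyv] at this
    rw [hd, map_sub, this, sub_self]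
  have hdv : ∀ t : F, d ≠ t • v := fun t ht => ha0 (by
    have := form_mulVec y w z
    rw [ha, show y.1 *ᵥ z = z + t • v by rw [← ht, hd, add_sub_cancel]] at this
    simp [map_add, map_smul, hw, form_self, form_swap v z, hz] at this
    exact this)
  have hrange : ∀ u, ∃ r s : F, y.1 *ᵥ u - u = r • v + s • d := fun u => by
    obtain ⟨b, hb, -⟩ := hperp (u - spB m F u v • z) (by simp [hz])
    rw [one_smul, Matrix.mulVec_sub, Matrix.mulVec_smul] at hb
    refine ⟨b, spB m F u v, ?_⟩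
    rw [hd]
    linear_combination (norm := module) hb
  have hcard : Nat.card (cls y) = Nat.card (cls x) := by
    congr 1
    have : cls y = cls x := by
      ext u
      constructor
      · rintro ⟨h, rfl⟩; exact ⟨h * g, by simp only [hy']; group⟩
      · rintro ⟨h, rfl⟩; exact ⟨h * g⁻¹, by simp only [hy']; group⟩
    rw [this]
  have hge := card_cls_ge hm hv hd.symm hdv hvd ha0 (by rw [ha, add_sub_cancel_left]) hrange
  rw [hcard] at hge
  have h4 := hge.trans (Nat.mul_le_mul_right _ hle)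
  have hq : 2 ≤ Fintype.card F := Fintype.one_lt_card
  have hpos : 0 < Fintype.card F ^ (2 * m) - 1 := by
    have : 2 ^ 1 ≤ Fintype.card F ^ (2 * m) := (Nat.pow_le_pow_left hq 1).trans (Nat.pow_le_pow_right (by omega) (by omega))
    omega
  have h5 := Nat.le_of_mul_le_mul_left h4 hpos
  have h6 : Fintype.card F ^ 5 ≤ Fintype.card F ^ (2 * m - 1) := Nat.pow_le_pow_right (by omega) (by omega)
  have h7 : Fintype.card F ^ 4 * 2 ≤ Fintype.card F ^ 5 := by rw [pow_succ _ 4]; exact Nat.mul_le_mul_left _ hq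
  have h8 : Fintype.card F < Fintype.card F ^ 4 := by
    calc Fintype.card F = Fintype.card F ^ 1 := (pow_one _).symm
      _ < _ := Nat.pow_lt_pow_right hq (by norm_num)
  omega

end Cfsg.Lib.Linear.AutPSp
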